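import Groth.Agent.S1848
import Groth.Agent.L22.Cyc.OrdFrac
import Mathlib.RingTheory.KrullDimension.NonZeroDivisors
import Mathlib.RingTheory.Localization.FractionRing
import Mathlib.RingTheory.Ideal.KrullsHeightTheorem

/-!
The sum over the height-one primes of orders of tame symbols, as a bilinear alternating function of
units of the total ring of fractions.
-/

set_option autoImplicit false
universe u

noncomputable section

namespace Groth.L15.Key

open CycAlg

variable (A : Type u) [CommRing A]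

/-- primes of height one -/
def ht1 : Set (PrimeSpectrum A) := {p | p.asIdeal.height = 1}

variable {A}

theorem finite_ht1 [IsNoetherianRing A] {u : A} (hu : u ∈ nonZeroDivisors A) :
    {p ∈ ht1 A | u ∈ p.asIdeal}.Finite := by
  refine Set.Finite.of_finite_image (f := PrimeSpectrum.asIdeal) ?_
    fun a _ b _ h => PrimeSpectrum.ext h
  refine (Ideal.span {u}).finite_minimalPrimes_of_isNoetherianRing.subset ?_
  rintro _ ⟨p, ⟨hp, hup⟩, rfl⟩
  have hle : Ideal.span {u} ≤ p.asIdeal := (Ideal.span_singleton_le_iff_mem _).mpr hup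
  obtain ⟨q, hq, hqp⟩ := Ideal.exists_minimalPrimes_le hle
  have := hq.1.1
  have h0 : q.height ≠ 0 := by
    intro h0
    rw [Ideal.height_eq_zero_iff] at h0
    exact Set.disjoint_iff.mp (Ideal.disjoint_nonZeroDivisors_of_mem_minimalPrimes h0)
      ⟨hq.1.2 (Ideal.subset_span rfl), hu⟩
  suffices q = p.asIdeal by rwa [← this]
  refine eq_of_le_of_not_lt hqp fun hlt => ?_
  have h1 := Ideal.height_add_one_le_of_lt_of_isPrime (I := q) (J := p.asIdeal) hlt
  rw [show p.asIdeal.height = 1 from hp] at h1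
  cases hqh : q.height with
  | top => rw [hqh] at h1; simp at h1
  | coe n =>
    rw [hqh] at h1 h0
    norm_cast at h1 h0
    omega

theorem dim_loc {p : PrimeSpectrum A} (hp : p ∈ ht1 A) :
    ringKrullDim (Localization.AtPrime p.asIdeal) = 1 := by
  rw [IsLocalization.AtPrime.ringKrullDim_eq_height p.asIdeal, show p.asIdeal.height = 1 from hp]
  rfl

theorem dim_quot (hA : ringKrullDim A = 2) {p : PrimeSpectrum A} (hp : p ∈ ht1 A) :
    Ring.KrullDimLE 1 (A ⧸ p.asIdeal) := by
  obtain ⟨q, hq, hqp⟩ := Ideal.exists_minimalPrimes_le (J := p.asIdeal) (bot_le : ⊥ ≤ p.asIdeal)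
  let q' : PrimeSpectrum A := ⟨q, hq.1.1⟩
  have hne : q ≠ p.asIdeal := by
    intro h
    have := hq.1.1
    have h0 : q.height = 0 := by
      exact Ideal.height_eq_zero_iff.mpr hq
    rw [h, show p.asIdeal.height = 1 from hp] at h0
    exact one_ne_zero h0
  have key : ringKrullDim (A ⧸ p.asIdeal) + 1 ≤ ringKrullDim A := by
    haveI : Nonempty (PrimeSpectrum.zeroLocus (R := A) (p.asIdeal : Set A)) := ⟨⟨p, fun _ h => h⟩⟩
    haveI : Nonempty (PrimeSpectrum A) := ⟨p⟩
    rw [ringKrullDim_quotient, Order.krullDim_eq_iSup_length, ringKrullDim,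
      Order.krullDim_eq_iSup_length, ← WithBot.coe_one, ← WithBot.coe_add,
      ENat.iSup_add, WithBot.coe_le_coe, iSup_le_iff]
    intro l
    have hp' : q' < l.head.1 :=
      lt_of_lt_of_le (show q' < p from lt_of_le_of_ne (show q' ≤ p from hqp) fun h => hne (congrArg PrimeSpectrum.asIdeal h)) l.head.2
    refine le_trans ?_ (le_iSup _ ((l.map Subtype.val (fun _ _ ↦ id)).cons q' hp'))
    simp
  rw [Ring.krullDimLE_iff]
  rw [hA, show (2 : WithBot ℕ∞) = 1 + 1 from rfl] at key
  exact (ENat.WithBot.add_le_add_natCast_right_iff (c := 1)).mp (by exact_mod_cast key)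

theorem ordFrac_mul {R : Type u} [CommRing R] [IsDomain R] [IsNoetherianRing R] [Ring.KrullDimLE 1 R]
    {K : Type u} [Field K] [Algebra R K] [IsFractionRing R K] {f g : K} (hf : f ≠ 0) (hg : g ≠ 0) :
    ordFrac R K (f * g) = ordFrac R K f + ordFrac R K g := by
  obtain ⟨a, b, hb, rfl⟩ := IsFractionRing.div_surjective (A := R) f
  obtain ⟨c, d, hd, rfl⟩ := IsFractionRing.div_surjective (A := R) g
  have hb0 : b ≠ 0 := nonZeroDivisors.ne_zero hb
  have hd0 : d ≠ 0 := nonZeroDivisors.ne_zero hd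
  have ha0 : a ≠ 0 := fun h => hf (by rw [h, map_zero, zero_div])
  have hc0 : c ≠ 0 := fun h => hg (by rw [h, map_zero, zero_div])
  rw [div_mul_div_comm, ← map_mul, ← map_mul,
    Groth.L22.OrdDet.ordFrac_div (mul_ne_zero ha0 hc0) (mul_ne_zero hb0 hd0),
    Groth.L22.OrdDet.ordFrac_div ha0 hb0, Groth.L22.OrdDet.ordFrac_div hc0 hd0,
    Ring.ord_mul R (mem_nonZeroDivisors_of_ne_zero hc0),
    Ring.ord_mul R (mem_nonZeroDivisors_of_ne_zero hd0),
    ENat.toNat_add (Ring.ord_ne_top (mem_nonZeroDivisors_of_ne_zero ha0))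
      (Ring.ord_ne_top (mem_nonZeroDivisors_of_ne_zero hc0)),
    ENat.toNat_add (Ring.ord_ne_top (mem_nonZeroDivisors_of_ne_zero hb0))
      (Ring.ord_ne_top (mem_nonZeroDivisors_of_ne_zero hd0))]
  push_cast
  ring

theorem ordFrac_one {R : Type u} [CommRing R] [IsDomain R] [IsNoetherianRing R] [Ring.KrullDimLE 1 R]
    {K : Type u} [Field K] [Algebra R K] [IsFractionRing R K] : ordFrac R K 1 = 0 := by
  have h := ordFrac_mul (R := R) (K := K) (one_ne_zero (α := K)) one_ne_zero
  rw [mul_one] at h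
  omega

theorem ordFrac_neg_one_pow {R : Type u} [CommRing R] [IsDomain R] [IsNoetherianRing R] [Ring.KrullDimLE 1 R]
    {K : Type u} [Field K] [Algebra R K] [IsFractionRing R K] (n : ℕ) :
    ordFrac R K ((-1) ^ n) = 0 := by
  rcases neg_one_pow_eq_or K n with h | h <;> rw [h]
  · exact ordFrac_one
  · have h1 := ordFrac_mul (R := R) (K := K) (neg_ne_zero.mpr (one_ne_zero (α := K)))
      (neg_ne_zero.mpr (one_ne_zero (α := K)))
    rw [neg_mul_neg, one_mul, ordFrac_one] at h1
    omega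

/-- the term at one prime -/
def phi (p : PrimeSpectrum A) (u v : A) : ℤ :=
  ordFrac (A ⧸ p.asIdeal) p.asIdeal.ResidueField
    (tameSymbol (Localization.AtPrime p.asIdeal) (algebraMap A (Localization.AtPrime p.asIdeal) u)
      (algebraMap A (Localization.AtPrime p.asIdeal) v))

/-- the sum over the height-one primes -/
def Phi (u v : A) : ℤ := ∑ᶠ (p : PrimeSpectrum A) (_ : p ∈ ht1 A), phi p u v

variable [IsNoetherianRing A]

theorem map_nzd_loc (p : PrimeSpectrum A) {u : A} (hu : u ∈ nonZeroDivisors A) :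
    algebraMap A (Localization.AtPrime p.asIdeal) u ∈ nonZeroDivisors (Localization.AtPrime p.asIdeal) :=
  IsLocalization.map_nonZeroDivisors_le p.asIdeal.primeCompl (Localization.AtPrime p.asIdeal) ⟨u, hu, rfl⟩

variable [IsLocalRing A] (hA : ringKrullDim A = 2)
include hA

theorem phi_eq_zero {p : PrimeSpectrum A} (hp : p ∈ ht1 A) {u v : A} (hv : v ∈ nonZeroDivisors A)
    (hu : u ∉ p.asIdeal) (hvp : v ∉ p.asIdeal) : phi p u v = 0 := by
  haveI := dim_quot hA hp
  obtain ⟨c, hc⟩ : IsUnit (algebraMap A (Localization.AtPrime p.asIdeal) u) :=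
    IsLocalization.map_units (Localization.AtPrime p.asIdeal) (⟨u, hu⟩ : p.asIdeal.primeCompl)
  have hvu : IsUnit (algebraMap A (Localization.AtPrime p.asIdeal) v) :=
    IsLocalization.map_units (Localization.AtPrime p.asIdeal) (⟨v, hvp⟩ : p.asIdeal.primeCompl)
  have h0 : (Module.length (Localization.AtPrime p.asIdeal) (Localization.AtPrime p.asIdeal ⧸
      Ideal.span {algebraMap A (Localization.AtPrime p.asIdeal) v})).toNat = 0 := by
    rw [Ideal.span_singleton_eq_top.mpr hvu]
    simp [Module.length_eq_zero]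
  rw [phi, ← hc, Groth.Agent.S1848.symbol_unit (dim_loc hp) c _ (map_nzd_loc p hv), h0, pow_zero]
  exact ordFrac_one

theorem phi_mul {p : PrimeSpectrum A} (hp : p ∈ ht1 A) {u u' v : A} (hu : u ∈ nonZeroDivisors A)
    (hu' : u' ∈ nonZeroDivisors A) (hv : v ∈ nonZeroDivisors A) :
    phi p (u * u') v = phi p u v + phi p u' v ∧ phi p v (u * u') = phi p v u + phi p v u' := by
  haveI := dim_quot hA hp
  have hd := dim_loc hp
  have a := map_nzd_loc p hu
  have a' := map_nzd_loc p hu'
  have b := map_nzd_loc p hv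
  obtain ⟨h1, h2⟩ := Groth.Agent.S1848.symbol_mul hd _ _ _ a a' b
  simp only [phi, map_mul, h1, h2]
  exact ⟨ordFrac_mul (Groth.Agent.S1848.symbol_ne_zero hd _ _ a b) (Groth.Agent.S1848.symbol_ne_zero hd _ _ a' b),
    ordFrac_mul (Groth.Agent.S1848.symbol_ne_zero hd _ _ b a) (Groth.Agent.S1848.symbol_ne_zero hd _ _ b a')⟩

theorem phi_self {p : PrimeSpectrum A} (hp : p ∈ ht1 A) {u : A} (hu : u ∈ nonZeroDivisors A) :
    phi p u u = 0 := by
  haveI := dim_quot hA hp
  rw [phi, Groth.Agent.S1848.symbol_self (dim_loc hp) _ (map_nzd_loc p hu)]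
  exact ordFrac_neg_one_pow _

theorem finite_support_phi {u v : A} (hu : u ∈ nonZeroDivisors A) (hv : v ∈ nonZeroDivisors A) :
    (ht1 A ∩ Function.support fun p => phi p u v).Finite := by
  refine (finite_ht1 (mul_mem hu hv)).subset fun p hp => ⟨hp.1, ?_⟩
  by_contra h
  exact hp.2 (phi_eq_zero hA hp.1 hv (fun h' => h (p.asIdeal.mul_mem_right v h'))
    fun h' => h (p.asIdeal.mul_mem_left u h'))

theorem Phi_mul {u u' v : A} (hu : u ∈ nonZeroDivisors A) (hu' : u' ∈ nonZeroDivisors A)
    (hv : v ∈ nonZeroDivisors A) :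
    Phi (u * u') v = Phi u v + Phi u' v ∧ Phi v (u * u') = Phi v u + Phi v u' := by
  simp only [Phi]
  constructor
  · rw [← finsum_mem_add_distrib' (finite_support_phi hA hu hv) (finite_support_phi hA hu' hv)]
    exact finsum_mem_congr rfl fun p hp => (phi_mul hA hp hu hu' hv).1
  · rw [← finsum_mem_add_distrib' (finite_support_phi hA hv hu) (finite_support_phi hA hv hu')]
    exact finsum_mem_congr rfl fun p hp => (phi_mul hA hp hu hu' hv).2

theorem Phi_self {u : A} (hu : u ∈ nonZeroDivisors A) : Phi u u = 0 :=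
  finsum_mem_eq_zero_of_forall_eq_zero fun _ hp => phi_self hA hp hu

theorem Phi_one {u : A} (hu : u ∈ nonZeroDivisors A) : Phi 1 u = 0 ∧ Phi u 1 = 0 := by
  have h := Phi_mul hA (one_mem _) (one_mem _) hu
  rw [mul_one] at h
  exact ⟨by omega, by omega⟩

theorem Phi_comm {u v : A} (hu : u ∈ nonZeroDivisors A) (hv : v ∈ nonZeroDivisors A) :
    Phi u v + Phi v u = 0 := by
  have h := Phi_self hA (mul_mem hu hv)
  rw [(Phi_mul hA hu hv (mul_mem hu hv)).1, (Phi_mul hA hu hv hu).2, (Phi_mul hA hu hv hv).2,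
    Phi_self hA hu, Phi_self hA hv] at h
  omega

end Groth.L15.Key
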