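import Groth.Agent.L15.Key.Psi
import Groth.Agent.L15.Tame.Main
import Mathlib.RingTheory.Localization.Integral
import Mathlib.RingTheory.Localization.Finiteness
import Mathlib.RingTheory.IntegralClosure.IsIntegralClosure.Basic
import Mathlib.RingTheory.Polynomial.ScaleRoots

/-!
Finite birational extensions of a ring inside its total ring of fractions, their localizations at a
height-one prime, and how to enlarge them so that finitely many elements become powers of one
parameter above that prime.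
-/

set_option autoImplicit false
universe u

noncomputable section

namespace Groth.L15.Key

open IsLocalRing Groth.L15.Tame CycAlg

variable {A : Type u} [CommRing A]

local notation "K" => FractionRing A

/-- the total ring of fractions localized at `p` -/
abbrev Kp (p : PrimeSpectrum A) : Type u :=
  Localization (Algebra.algebraMapSubmonoid (FractionRing A) p.asIdeal.primeCompl)

theorem isUnit_Kp (p : PrimeSpectrum A) {s : A} (hs : s ∈ p.asIdeal.primeCompl) :
    IsUnit (algebraMap A (Kp p) s) := by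
  rw [IsScalarTower.algebraMap_apply A K (Kp p)]
  exact IsLocalization.map_units (Kp p) (⟨_, Algebra.mem_algebraMapSubmonoid_of_mem ⟨s, hs⟩⟩ :
    Algebra.algebraMapSubmonoid K p.asIdeal.primeCompl)

theorem Kp_eq_iff (p : PrimeSpectrum A) {x y : K} :
    algebraMap K (Kp p) x = algebraMap K (Kp p) y ↔
      ∃ t ∈ p.asIdeal.primeCompl, algebraMap A K t * x = algebraMap A K t * y := by
  rw [IsLocalization.eq_iff_exists (Algebra.algebraMapSubmonoid K p.asIdeal.primeCompl)]
  constructor
  · rintro ⟨⟨_, t, ht, rfl⟩, h⟩; exact ⟨t, ht, h⟩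
  · rintro ⟨t, ht, h⟩; exact ⟨⟨_, t, ht, rfl⟩, h⟩

theorem injective_Kp (p : PrimeSpectrum A) :
    Function.Injective (algebraMap (Localization.AtPrime p.asIdeal) (Kp p)) := by
  rw [injective_iff_map_eq_zero]
  intro y hy
  obtain ⟨a, s, rfl⟩ := IsLocalization.exists_mk'_eq p.asIdeal.primeCompl y
  have h1 : algebraMap A (Kp p) a = 0 := by
    rw [IsScalarTower.algebraMap_apply A (Localization.AtPrime p.asIdeal) (Kp p),
      ← IsLocalization.mk'_spec (Localization.AtPrime p.asIdeal) a s, map_mul, hy, zero_mul]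
  rw [IsScalarTower.algebraMap_apply A K (Kp p), ← map_zero (algebraMap K (Kp p)), Kp_eq_iff] at h1
  obtain ⟨t, ht, h⟩ := h1
  rw [mul_zero, ← map_mul, ← map_zero (algebraMap A K)] at h
  exact IsLocalization.mk'_eq_zero_iff _ _ |>.mpr ⟨⟨t, ht⟩, IsFractionRing.injective A K h⟩

/-- localization of a subalgebra -/
def loc (p : PrimeSpectrum A) (C : Subalgebra A K) :
    Subalgebra (Localization.AtPrime p.asIdeal) (Kp p) where
  carrier := {x | ∃ c ∈ C, ∃ s ∈ p.asIdeal.primeCompl, x * algebraMap A (Kp p) s = algebraMap K (Kp p) c}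
  mul_mem' := by
    rintro x y ⟨c, hc, s, hs, h⟩ ⟨d, hd, t, ht, k⟩
    exact ⟨c * d, mul_mem hc hd, s * t, mul_mem hs ht, by rw [map_mul, map_mul, ← h, ← k]; ring⟩
  add_mem' := by
    rintro x y ⟨c, hc, s, hs, h⟩ ⟨d, hd, t, ht, k⟩
    refine ⟨c * algebraMap A K t + d * algebraMap A K s,
      add_mem (mul_mem hc (C.algebraMap_mem t)) (mul_mem hd (C.algebraMap_mem s)),
      s * t, mul_mem hs ht, ?_⟩
    rw [map_mul, map_add, map_mul, map_mul, ← h, ← k, ← IsScalarTower.algebraMap_apply A K (Kp p),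
      ← IsScalarTower.algebraMap_apply A K (Kp p)]
    ring
  algebraMap_mem' := fun y => by
    obtain ⟨a, s, rfl⟩ := IsLocalization.exists_mk'_eq p.asIdeal.primeCompl y
    refine ⟨algebraMap A K a, C.algebraMap_mem a, s, s.2, ?_⟩
    rw [IsScalarTower.algebraMap_apply A (Localization.AtPrime p.asIdeal) (Kp p), ← map_mul,
      IsLocalization.mk'_spec, ← IsScalarTower.algebraMap_apply, ← IsScalarTower.algebraMap_apply]

theorem mem_loc {p : PrimeSpectrum A} {C : Subalgebra A K} {x : Kp p} :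
    x ∈ loc p C ↔ ∃ c ∈ C, ∃ s ∈ p.asIdeal.primeCompl,
      x * algebraMap A (Kp p) s = algebraMap K (Kp p) c := Iff.rfl

theorem loc_mono (p : PrimeSpectrum A) {C D : Subalgebra A K} (h : C ≤ D) : loc p C ≤ loc p D :=
  fun _ ⟨c, hc, hs⟩ => ⟨c, h hc, hs⟩

variable (p : PrimeSpectrum A) (C : Subalgebra A (FractionRing A))

/-- the map to the localization -/
def toLoc : C →+* loc p C :=
  ((algebraMap K (Kp p)).comp C.val.toRingHom).codRestrict (loc p C) fun c =>
    ⟨c, c.2, 1, one_mem _, by simp⟩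

instance algLoc : Algebra C (loc p C) := (toLoc p C).toAlgebra

theorem val_algLoc (c : C) : ((algebraMap C (loc p C) c : loc p C) : Kp p) = algebraMap K (Kp p) c :=
  rfl

instance : IsScalarTower A C (loc p C) := IsScalarTower.of_algebraMap_eq fun a => Subtype.ext (by
  rw [val_algLoc]
  exact IsScalarTower.algebraMap_apply A K (Kp p) a)

instance : IsLocalization (Algebra.algebraMapSubmonoid C p.asIdeal.primeCompl) (loc p C) where
  map_units := by
    rintro ⟨_, s, hs, rfl⟩
    rw [← IsScalarTower.algebraMap_apply A C (loc p C),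
      IsScalarTower.algebraMap_apply A (Localization.AtPrime p.asIdeal) (loc p C)]
    exact (IsLocalization.map_units (Localization.AtPrime p.asIdeal)
      (⟨s, hs⟩ : p.asIdeal.primeCompl)).map _
  surj := fun x => by
    obtain ⟨c, hc, s, hs, h⟩ := mem_loc.mp x.2
    refine ⟨(⟨c, hc⟩, ⟨_, Algebra.mem_algebraMapSubmonoid_of_mem ⟨s, hs⟩⟩), Subtype.ext ?_⟩
    rw [MulMemClass.coe_mul, val_algLoc, val_algLoc]
    exact (congrArg _ (IsScalarTower.algebraMap_apply A K (Kp p) s).symm).trans h
  exists_of_eq := fun {x y} h => by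
    obtain ⟨t, ht, h'⟩ := (Kp_eq_iff p).mp (congrArg Subtype.val h)
    exact ⟨⟨_, Algebra.mem_algebraMapSubmonoid_of_mem ⟨t, ht⟩⟩, Subtype.ext h'⟩

theorem exists_bound [Module.Finite A C] :
    ∃ r ∈ nonZeroDivisors A, ∀ c ∈ C, ∃ y : A, algebraMap A K y = algebraMap A K r * c := by
  classical
  obtain ⟨G, hG⟩ := (Module.Finite.iff_fg (N := C.toSubmodule)).mp (inferInstanceAs (Module.Finite A C))
  obtain ⟨r, hr⟩ := IsLocalization.exist_integer_multiples (nonZeroDivisors A) G id
  refine ⟨r, r.2, fun c hc => ?_⟩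
  have hc' : c ∈ Submodule.span A (G : Set K) := hG ▸ hc
  induction hc' using Submodule.span_induction with
  | mem g hg => obtain ⟨y, hy⟩ := hr g hg; exact ⟨y, by rw [hy]; exact Algebra.smul_def _ _⟩
  | zero => exact ⟨0, by simp⟩
  | add x y hx hy ihx ihy =>
    obtain ⟨a, ha⟩ := ihx (by have := hx; rw [hG] at this; exact this)
    obtain ⟨b, hb⟩ := ihy (by have := hy; rw [hG] at this; exact this)
    exact ⟨a + b, by rw [map_add, ha, hb, mul_add]⟩
  | smul a x hx ih =>
    obtain ⟨b, hb⟩ := ih (by have := hx; rw [hG] at this; exact this)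
    exact ⟨a * b, by rw [map_mul, hb, Algebra.smul_def]; ring⟩

theorem finite_loc [Module.Finite A C] : Module.Finite (Localization.AtPrime p.asIdeal) (loc p C) :=
  Module.Finite.of_isLocalization A C p.asIdeal.primeCompl

variable {p} {C}

theorem mem_nzd_loc {x : loc p C} (h : IsUnit (x : Kp p)) : x ∈ nonZeroDivisors (loc p C) :=
  mem_nonZeroDivisors_iff_right.mpr fun y hy =>
    Subtype.ext (h.mul_left_eq_zero.mp (congrArg Subtype.val hy))

theorem toLoc_nzd {x : C} (h : IsUnit (x : K)) :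
    algebraMap C (loc p C) x ∈ nonZeroDivisors (loc p C) :=
  mem_nzd_loc (by rw [val_algLoc]; exact h.map _)

variable [IsNoetherianRing A]

theorem finExt_loc (hp : p ∈ ht1 A) [Module.Finite A C] :
    IsFinExt (Localization.AtPrime p.asIdeal) (loc p C)
      (maximalIdeal (Localization.AtPrime p.asIdeal)) := by
  obtain ⟨r, hr, hrC⟩ := exists_bound C
  have hinj : Function.Injective (algebraMap (Localization.AtPrime p.asIdeal) (loc p C)) :=
    fun x y h => injective_Kp p (congrArg Subtype.val h)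
  refine ⟨hinj, finite_loc p C, ?_⟩
  let r' := algebraMap A (Localization.AtPrime p.asIdeal) r
  have hmul : ∀ b : loc p C, ∃ y, algebraMap (Localization.AtPrime p.asIdeal) (loc p C) y = r' • b := by
    intro b
    obtain ⟨c, hc, s, hs, h⟩ := mem_loc.mp b.2
    obtain ⟨y, hy⟩ := hrC c hc
    refine ⟨IsLocalization.mk' _ y (⟨s, hs⟩ : p.asIdeal.primeCompl), Subtype.ext ?_⟩
    refine (isUnit_Kp p hs).mul_right_cancel ?_
    change algebraMap (Localization.AtPrime p.asIdeal) (Kp p) _ * _ = (r' • (b : Kp p)) * _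
    rw [smul_mul_assoc, h, Algebra.smul_def,
      IsScalarTower.algebraMap_apply A (Localization.AtPrime p.asIdeal) (Kp p) s, ← map_mul,
      IsLocalization.mk'_spec, ← IsScalarTower.algebraMap_apply, ← IsScalarTower.algebraMap_apply,
      IsScalarTower.algebraMap_apply A K (Kp p) y, hy, map_mul, ← IsScalarTower.algebraMap_apply]
  by_cases hu : IsUnit r'
  · refine ⟨0, fun z _ b => ?_⟩
    obtain ⟨y, hy⟩ := hmul b
    refine ⟨z * ((↑hu.unit⁻¹ : Localization.AtPrime p.asIdeal) * y), ?_⟩
    rw [map_mul, map_mul, hy, Algebra.smul_def, Algebra.smul_def, ← mul_assoc (algebraMap _ (loc p C) (↑hu.unit⁻¹ : Localization.AtPrime p.asIdeal)),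
      ← map_mul, IsUnit.val_inv_mul, map_one, one_mul]
  have hd := dim_loc hp
  have hart : IsArtinianRing (Localization.AtPrime p.asIdeal ⧸ Ideal.span {r'}) :=
    Groth.L15.CommonFactor.artinian_quot hd.le (map_nzd_loc p hr)
  have := (Ideal.Quotient.nontrivial_iff (I := Ideal.span {r'})).mpr
    (by rw [Ne, Ideal.span_singleton_eq_top]; exact hu)
  obtain ⟨M, hM⟩ := exists_maximalIdeal_pow_le_of_isArtinianRing_quotient (Ideal.span {r'})
  refine ⟨M, fun z hz b => ?_⟩
  obtain ⟨w, rfl⟩ := Ideal.mem_span_singleton'.mp (hM hz)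
  obtain ⟨y, hy⟩ := hmul b
  exact ⟨w * y, by rw [map_mul, hy, mul_smul, Algebra.smul_def w]⟩

/-- lifting an integral element -/
theorem exists_lift {x : Kp p} (hx : IsIntegral (Localization.AtPrime p.asIdeal) x) :
    ∃ θ : K, IsIntegral A θ ∧ ∃ s ∈ p.asIdeal.primeCompl,
      x * algebraMap A (Kp p) s = algebraMap K (Kp p) θ := by
  obtain ⟨⟨k, ⟨_, u, hu, rfl⟩⟩, hk⟩ :=
    IsLocalization.surj (Algebra.algebraMapSubmonoid K p.asIdeal.primeCompl) x
  obtain ⟨⟨m, hm⟩, hint⟩ := hx.exists_multiple_integral_of_isLocalization p.asIdeal.primeCompl x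
  simp only [← IsScalarTower.algebraMap_apply A K (Kp p)] at hk
  have hk' : IsIntegral A (algebraMap K (Kp p) (algebraMap A K m * k)) := by
    rw [map_mul, ← hk, ← IsScalarTower.algebraMap_apply A K (Kp p)]
    have h2 : algebraMap A (Kp p) m * (x * algebraMap A (Kp p) u) =
        (m • x) * algebraMap A (Kp p) u := by rw [Algebra.smul_def]; ring
    rw [h2]
    exact IsIntegral.mul hint isIntegral_algebraMap
  obtain ⟨f, hf, hf0⟩ := hk'
  have hf0' : Polynomial.aeval (algebraMap K (Kp p) (algebraMap A K m * k)) (f * Polynomial.X) = 0 := by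
    rw [map_mul, show Polynomial.aeval (algebraMap K (Kp p) (algebraMap A K m * k)) f = 0 from hf0,
      zero_mul]
  rw [Polynomial.aeval_algebraMap_apply, ← map_zero (algebraMap K (Kp p)), Kp_eq_iff] at hf0'
  obtain ⟨t, ht, h0⟩ := hf0'
  rw [mul_zero] at h0
  refine ⟨algebraMap A K t * (algebraMap A K m * k), ?_, t * (m * u), mul_mem ht (mul_mem hm hu), ?_⟩
  · refine ⟨(f * Polynomial.X).scaleRoots t,
      (Polynomial.monic_scaleRoots_iff t).mpr (hf.mul Polynomial.monic_X), ?_⟩
    rw [Polynomial.scaleRoots_eval₂_mul]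
    haveI : Nontrivial A := p.nontrivial
    have hd : 0 < (f * Polynomial.X).natDegree := by
      rw [hf.natDegree_mul Polynomial.monic_X, Polynomial.natDegree_X]; omega
    obtain ⟨d, hd'⟩ := Nat.exists_eq_add_of_lt hd
    rw [hd', zero_add, pow_succ, mul_assoc]
    rw [← Polynomial.aeval_def, h0, mul_zero]
  · rw [map_mul, map_mul, map_mul, map_mul, ← hk, ← IsScalarTower.algebraMap_apply A K (Kp p),
      ← IsScalarTower.algebraMap_apply A K (Kp p)]
    ring

/-- at every point over `p` the elements of `S` are units times powers of one element -/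
def Fine (p : PrimeSpectrum A) (S : Finset (FractionRing A)) (C : Subalgebra A (FractionRing A)) : Prop :=
  ∀ q : MaximalSpectrum (loc p C), ∃ π ∈ nonZeroDivisors (Localization.AtPrime q.asIdeal),
    ∀ x : C, (x : K) ∈ S → ∃ (v : (Localization.AtPrime q.asIdeal)ˣ) (e : ℕ),
      algebraMap (loc p C) (Localization.AtPrime q.asIdeal) (algebraMap C (loc p C) x) =
        (v : Localization.AtPrime q.asIdeal) * π ^ e

theorem exists_fine [IsLocalRing A] (hp : p ∈ ht1 A) {z : A} (hz : z ∈ nonZeroDivisors A)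
    (hzp : z ∈ p.asIdeal) (C : Subalgebra A K) [Module.Finite A C] (S : Finset K)
    (hSC : ∀ x ∈ S, x ∈ C) (hS : ∀ x ∈ S, IsUnit x) :
    ∃ C' : Subalgebra A K, C ≤ C' ∧ Module.Finite A C' ∧
      ∀ D : Subalgebra A K, C' ≤ D → Module.Finite A D → Fine p S D := by
  classical
  have hd := dim_loc hp
  let S' : Finset (loc p C) := S.attach.image fun x : {x // x ∈ S} => algebraMap C (loc p C) ⟨x.1, hSC x.1 x.2⟩
  have hS' : ∀ x ∈ S', x ∈ nonZeroDivisors (loc p C) := by
    intro x hx
    obtain ⟨y, -, rfl⟩ := Finset.mem_image.mp hx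
    exact toLoc_nzd (hS y.1 y.2)
  obtain ⟨Cp, _, _, φ, hφ, hφnzd, hCp, T, hT, hrep, hsep⟩ :=
    exists_separated (Localization.AtPrime p.asIdeal) hd _ (loc p C) (finExt_loc hp) S' hS' le_rfl
  obtain ⟨hinjCp, hfinCp, n, hn⟩ := hCp
  let z' := algebraMap A (Localization.AtPrime p.asIdeal) z
  let r := z' ^ n
  have hrm : r ∈ maximalIdeal (Localization.AtPrime p.asIdeal) ^ n :=
    Ideal.pow_mem_pow ((IsLocalization.AtPrime.to_map_mem_maximal_iff _ p.asIdeal z).mpr hzp) n
  have hrK : IsUnit (algebraMap (Localization.AtPrime p.asIdeal) (Kp p) r) := by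
    rw [map_pow, ← IsScalarTower.algebraMap_apply, IsScalarTower.algebraMap_apply A K (Kp p)]
    exact ((isUnit_map hz).map _).pow n
  have hrCp : algebraMap (Localization.AtPrime p.asIdeal) Cp r ∈ nonZeroDivisors Cp := by
    rw [← φ.commutes]
    refine hφnzd _ (mem_nzd_loc ?_)
    exact hrK
  obtain ⟨ι, hι⟩ : ∃ ι : Cp →ₐ[Localization.AtPrime p.asIdeal] Kp p, Function.Injective ι :=
    exists_embed hrK (fun b => hn r hrm b) hinjCp (injective_Kp p) hrCp
  have hιφ : ∀ b : loc p C, ι (φ b) = b := by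
    intro b
    refine hrK.mul_left_cancel ?_
    obtain ⟨y, hy⟩ := hn r hrm (φ b)
    have h1 : algebraMap (Localization.AtPrime p.asIdeal) (Kp p) y = r • ι (φ b) := by
      rw [← map_smul, ← hy, ι.commutes]
    have h2 : algebraMap (Localization.AtPrime p.asIdeal) (loc p C) y = r • b := hφ (by
      rw [φ.commutes, hy, map_smul])
    rw [← Algebra.smul_def, ← Algebra.smul_def, ← h1]
    exact congrArg Subtype.val h2
  obtain ⟨G, hG⟩ := hfinCp.fg_top
  have hgint : ∀ g : Cp, IsIntegral (Localization.AtPrime p.asIdeal) (ι g) := fun g =>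
    (IsIntegral.of_finite (Localization.AtPrime p.asIdeal) g).map ι
  choose θ hθ hθs using fun g => exists_lift (hgint g)
  let C₁ := Algebra.adjoin A ((G.image θ : Finset K) : Set K)
  have hfg : (C ⊔ C₁).toSubmodule.FG := by
    rw [← Subalgebra.mul_toSubmodule]
    exact ((Module.Finite.iff_fg (N := C.toSubmodule)).mp (inferInstanceAs (Module.Finite A C))).mul
      (fg_adjoin_of_finite (Finset.finite_toSet _) fun x hx => by
        obtain ⟨g, -, rfl⟩ := Finset.mem_image.mp hx
        exact hθ g)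
  refine ⟨C ⊔ C₁, le_sup_left, Module.Finite.iff_fg.mpr hfg, fun D hD _ q => ?_⟩
  have hmem : ∀ c : Cp, ι c ∈ loc p D := by
    intro c
    have hc : c ∈ Submodule.span (Localization.AtPrime p.asIdeal) (G : Set Cp) := hG ▸ Submodule.mem_top
    induction hc using Submodule.span_induction with
    | mem g hg => exact ⟨θ g, hD ((le_sup_right : C₁ ≤ C ⊔ C₁)
        (Algebra.subset_adjoin (Finset.mem_image_of_mem θ hg))), hθs g⟩
    | zero => rw [map_zero]; exact zero_mem _
    | add x y _ _ hx hy => rw [map_add]; exact add_mem hx hy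
    | smul a x _ hx => rw [map_smul]; exact Subalgebra.smul_mem _ hx a
  let j : Cp →ₐ[Localization.AtPrime p.asIdeal] loc p D := ι.codRestrict (loc p D) hmem
  have hj : ∀ t ∈ nonZeroDivisors Cp, j t ∈ nonZeroDivisors (loc p D) := by
    intro t ht
    obtain ⟨-, -, M, hM⟩ := finExt_loc (C := D) hp
    rw [mem_nonZeroDivisors_iff_right]
    intro b hb
    have hrM : z' ^ M ∈ maximalIdeal (Localization.AtPrime p.asIdeal) ^ M :=
      Ideal.pow_mem_pow ((IsLocalization.AtPrime.to_map_mem_maximal_iff _ p.asIdeal z).mpr hzp) M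
    obtain ⟨y, hy⟩ := hM _ hrM b
    have h1 : algebraMap _ Cp y * t = 0 := hι (by
      rw [map_mul, ι.commutes, map_zero]
      have h2 := congrArg (fun w : loc p D => (w : Kp p) * ι t) hy
      have h3 : (b : Kp p) * ι t = 0 := congrArg Subtype.val hb
      refine h2.trans ?_
      change (z' ^ M • (b : Kp p)) * ι t = 0
      rw [smul_mul_assoc, h3, smul_zero])
    have h4 : y = 0 := hinjCp (by rw [map_zero, mem_nonZeroDivisors_iff_right.mp ht _ h1])
    refine Subtype.ext ?_
    have h5 : (0 : Kp p) = algebraMap _ (Kp p) (z' ^ M) * (b : Kp p) := by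
      rw [← Algebra.smul_def, ← map_zero (algebraMap (Localization.AtPrime p.asIdeal) (Kp p)), ← h4]
      exact congrArg Subtype.val hy
    have hzu : IsUnit (algebraMap (Localization.AtPrime p.asIdeal) (Kp p) (z' ^ M)) := by
      rw [map_pow, ← IsScalarTower.algebraMap_apply, IsScalarTower.algebraMap_apply A K (Kp p)]
      exact ((isUnit_map hz).map _).pow M
    exact hzu.mul_right_eq_zero.mp h5.symm
  have hsep' : Separated (T.image j) := by
    intro m hm x hx y hy hxm hym
    obtain ⟨x', hx', rfl⟩ := Finset.mem_image.mp hx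
    obtain ⟨y', hy', rfl⟩ := Finset.mem_image.mp hy
    have hne : m.comap j.toRingHom ≠ ⊤ := Ideal.comap_ne_top _ hm.ne_top
    obtain ⟨m', hm', hle⟩ := Ideal.exists_le_maximal _ hne
    rw [hsep m' hm' x' hx' y' hy' (hle hxm) (hle hym)]
  obtain ⟨π, hπ, hgen⟩ := exists_param (T.image j) (fun x hx => by
    obtain ⟨t, ht, rfl⟩ := Finset.mem_image.mp hx
    exact hj t (hT t ht)) hsep' q
  refine ⟨π, hπ, fun x hx => hgen _ ?_⟩
  have h1 := hrep (algebraMap C (loc p C) ⟨(x : K), hSC _ hx⟩)
    (Finset.mem_image.mpr ⟨⟨(x : K), hx⟩, Finset.mem_attach _ _, rfl⟩)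
  have h2 : algebraMap D (loc p D) x = j (φ (algebraMap C (loc p C) ⟨(x : K), hSC _ hx⟩)) :=
    Subtype.ext (hιφ (algebraMap C (loc p C) ⟨(x : K), hSC _ hx⟩)).symm
  rw [h2]
  have h3 : (Submonoid.closure ({z : Cp | IsUnit z} ∪ ↑T)).map j.toMonoidHom ≤
      Submonoid.closure ({z : loc p D | IsUnit z} ∪ ↑(T.image j)) := by
    rw [Submonoid.map_le_iff_le_comap, Submonoid.closure_le]
    rintro w (hw | hw)
    · exact Submonoid.subset_closure (Or.inl (hw.map j))
    · exact Submonoid.subset_closure (Or.inr (Finset.mem_image_of_mem j hw))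
  exact h3 ⟨_, h1, rfl⟩

theorem exists_fine_all [IsLocalRing A] (F : Finset (PrimeSpectrum A)) (hF : ∀ p ∈ F, p ∈ ht1 A)
    (hFz : ∀ p ∈ F, ∃ z ∈ nonZeroDivisors A, z ∈ p.asIdeal) (C : Subalgebra A K) [Module.Finite A C]
    (S : Finset K) (hSC : ∀ x ∈ S, x ∈ C) (hS : ∀ x ∈ S, IsUnit x) :
    ∃ C' : Subalgebra A K, C ≤ C' ∧ Module.Finite A C' ∧
      ∀ D : Subalgebra A K, C' ≤ D → Module.Finite A D → ∀ p ∈ F, Fine p S D := by
  classical
  induction F using Finset.induction_on with
  | empty => exact ⟨C, le_rfl, inferInstance, fun _ _ _ p hp => absurd hp (Finset.notMem_empty p)⟩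
  | insert p F hpF ih =>
    obtain ⟨C', hle, hfin, hC'⟩ := ih (fun q hq => hF q (Finset.mem_insert_of_mem hq))
      fun q hq => hFz q (Finset.mem_insert_of_mem hq)
    obtain ⟨z, hz, hzp⟩ := hFz p (Finset.mem_insert_self p F)
    obtain ⟨C'', hle', hfin', hC''⟩ := exists_fine (hF p (Finset.mem_insert_self p F)) hz hzp C' S
      (fun x hx => hle (hSC x hx)) hS
    refine ⟨C'', hle.trans hle', hfin', fun D hD hDf q hq => ?_⟩
    rcases Finset.mem_insert.mp hq with rfl | hq
    · exact hC'' D hD hDf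
    · exact hC' D (hle'.trans hD) hDf q hq

end Groth.L15.Key
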