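import Groth.Agent.L22.QuotLength
import Groth.Agent.L15.Key.Phi
import Mathlib.RingTheory.Ideal.GoingUp

/-!
For a finite algebra `D` over a local ring `A`: Herbrand quotient of multiplication by `x` on a module
killed by `y` as a sum over the nonmaximal primes containing `y`; symmetry in `x` and `y`.
-/

set_option autoImplicit false
universe u

noncomputable section

namespace Groth.L15.Key

open CycAlg Groth.L22.QuotLength

variable {A D : Type u} [CommRing A] [CommRing D] [Algebra A D]

section

variable {M N : Type u} [AddCommGroup M] [Module A M] [AddCommGroup N] [Module A N]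

theorem length_perH_ker (φ : M →ₗ[A] N) :
    Module.length A (perH φ (0 : N →ₗ[A] M)) = Module.length A (LinearMap.ker φ) :=
  (Submodule.quotEquivOfEqBot _ (by
    rw [eq_bot_iff]
    intro a ha
    obtain ⟨b, hb⟩ := Submodule.mem_comap.1 ha
    exact (Submodule.mem_bot _).2 (Subtype.ext hb.symm))).length_eq

theorem length_perH_coker (φ : M →ₗ[A] N) :
    Module.length A (perH (0 : N →ₗ[A] M) φ) = Module.length A (N ⧸ LinearMap.range φ) :=
  (Submodule.Quotient.equiv _ _ ((LinearEquiv.ofEq _ _ LinearMap.ker_zero).trans Submodule.topEquiv)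
    (by
      ext a
      constructor
      · rintro ⟨b, hb, rfl⟩
        exact hb
      · intro ha
        exact ⟨⟨a, rfl⟩, ha, rfl⟩)).length_eq

theorem herbrand_zero_of_finite (φ : M →ₗ[A] M) (h : Module.length A M ≠ ⊤) :
    FinCoh A φ (0 : M →ₗ[A] M) ∧ herbrand A φ (0 : M →ₗ[A] M) = 0 := by
  have hk := ne_top_of_le_ne_top h (Module.length_le_of_injective (LinearMap.ker φ).subtype (Submodule.injective_subtype _))
  have hc := ne_top_of_le_ne_top h (Module.length_le_of_surjective (LinearMap.range φ).mkQ (Submodule.mkQ_surjective _))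
  refine ⟨⟨by rw [length_perH_ker]; exact hk.lt_top, by rw [length_perH_coker]; exact hc.lt_top⟩, ?_⟩
  have h1 := Groth.L22.length_eq_ker_add_range φ
  have h2 : Module.length A M = Module.length A (LinearMap.range φ) + Module.length A (M ⧸ LinearMap.range φ) :=
    Module.length_eq_add_of_exact (LinearMap.range φ).subtype (LinearMap.range φ).mkQ
      (Submodule.injective_subtype _) (Submodule.mkQ_surjective _) (LinearMap.exact_subtype_mkQ _)
  rw [h2, add_comm (Module.length A (LinearMap.ker φ))] at h1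
  have hr := ne_top_of_le_ne_top h (Module.length_le_of_injective (LinearMap.range φ).subtype (Submodule.injective_subtype _))
  rw [herbrand, length_perH_ker, length_perH_coker, WithTop.add_left_cancel hr h1, sub_self]

end

/-- lengths of quotients of `D` all of whose primes are maximal are finite -/
theorem length_quot_ne_top [IsNoetherianRing A] [IsLocalRing A] [Module.Finite A D] (I : Ideal D)
    (h : ∀ P : Ideal D, P.IsPrime → I ≤ P → P.IsMaximal) : Module.length A (D ⧸ I) ≠ ⊤ := by
  refine length_ne_top_of_support _ fun p hp => ?_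
  rw [Module.support_eq_zeroLocus] at hp
  have hker : I.comap (algebraMap A D) ≤ p.asIdeal := fun a ha => hp (Module.mem_annihilator.mpr fun m => by
    obtain ⟨m, rfl⟩ := Ideal.Quotient.mk_surjective m
    rw [Algebra.smul_def, ← Ideal.Quotient.mk_algebraMap, ← map_mul, Ideal.Quotient.eq_zero_iff_mem]
    exact I.mul_mem_right m ha)
  obtain ⟨P, hIP, hP, hPc⟩ := Ideal.exists_ideal_over_prime_of_isIntegral p.asIdeal I hker
  haveI := h P hP hIP
  rw [← hPc]
  exact IsLocalRing.eq_maximalIdeal (Ideal.isMaximal_comap_of_isIntegral_of_isMaximal (R := A) P)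

/-- multiplication by an element of `D` -/
def mulx (A : Type u) [CommRing A] [Algebra A D] (M : Type u) [AddCommGroup M] [Module D M] [Module A M]
    [IsScalarTower A D M] (x : D) : M →ₗ[A] M :=
  (LinearMap.lsmul D M x).restrictScalars A

/-- weight of one prime -/
def wt (A : Type u) [CommRing A] [Algebra A D] (x : D) (M : Type u) [AddCommGroup M] [Module D M]
    (P : PrimeSpectrum D) : ℤ :=
  ((locLen M P).toNat : ℤ) * ((Module.length A (D ⧸ (P.asIdeal ⊔ Ideal.span {x}))).toNat : ℤ)

variable [IsNoetherianRing A] [IsLocalRing A] [IsNoetherianRing D] [Module.Finite A D]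

theorem herbrand_eq_sum (x y : D) (Q : Finset (PrimeSpectrum D))
    (hcls : ∀ P : PrimeSpectrum D, y ∈ P.asIdeal → P ∈ Q ∨ P.asIdeal.IsMaximal)
    (hanti : ∀ P' ∈ Q, ∀ P : PrimeSpectrum D, y ∈ P.asIdeal → P.asIdeal ≤ P'.asIdeal → P = P')
    (hxQ : ∀ P ∈ Q, x ∉ P.asIdeal) (hyQ : ∀ P ∈ Q, y ∈ P.asIdeal)
    (M : Type u) [AddCommGroup M] [Module D M] [hM : Module.Finite D M] :
    ∀ [Module A M] [IsScalarTower A D M], (∀ m : M, y • m = 0) →
      FinCoh A (mulx A M x) 0 ∧ (∀ P ∈ Q, locLen M P ≠ ⊤) ∧
        -herbrand A (mulx A M x) 0 = ∑ P ∈ Q, wt A x M P := by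
  classical
  induction hM using IsNoetherianRing.induction_on_isQuotientEquivQuotientPrime D with
  | subsingleton N =>
    intro _ _ _
    have h0 : Module.length A N = 0 := Module.length_eq_zero
    obtain ⟨h1, h2⟩ := herbrand_zero_of_finite (mulx A N x) (by rw [h0]; simp)
    have hl : ∀ P : PrimeSpectrum D, locLen N P = 0 := fun P => locLen_eq_zero (by simp [Module.support_eq_empty])
    refine ⟨h1, fun P _ => by rw [hl]; simp, ?_⟩
    rw [h2, neg_zero, Finset.sum_eq_zero fun P _ => by rw [wt, hl]; simp]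
  | quotient N q e =>
    intro _ _ hy
    have hyq : y ∈ q.asIdeal := by
      have h := congrArg e (hy (e.symm 1))
      rw [map_smul, e.apply_symm_apply, map_zero, Algebra.smul_def, mul_one] at h
      exact Ideal.Quotient.eq_zero_iff_mem.mp h
    let eA : N ≃ₗ[A] D ⧸ q.asIdeal := e.restrictScalars A
    have hl : ∀ P : PrimeSpectrum D, P ≠ q → P ∈ Q → locLen N P = 0 := fun P hne hP => by
      refine locLen_eq_zero fun h => hne ?_
      rw [LinearEquiv.support_eq e, Module.support_eq_zeroLocus, Ideal.annihilator_quotient] at h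
      exact (hanti P hP q hyq h).symm
    have hl' : ∀ P ∈ Q, locLen N P ≠ ⊤ := fun P hP => by
      by_cases hne : P = q
      · subst hne; rw [locLen_congr e, locLen_quotient]; simp
      · rw [hl P hne hP]; simp
    by_cases hq : q ∈ Q
    · have hxq := hxQ q hq
      have hne : Ideal.Quotient.mk q.asIdeal x ≠ 0 := fun h => hxq (Ideal.Quotient.eq_zero_iff_mem.mp h)
      have ecomm : ∀ z : N, e (x • z) = Ideal.Quotient.mk q.asIdeal x * e z := fun z => by
        rw [map_smul]; rfl
      have hker : LinearMap.ker (mulx A N x) = ⊥ := by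
        rw [eq_bot_iff]
        intro z hz
        have h2 : Ideal.Quotient.mk q.asIdeal x * e z = 0 := by
          rw [← ecomm, show x • z = 0 from hz, map_zero]
        exact (Submodule.mem_bot _).2 ((map_eq_zero_iff _ e.injective).1 ((mul_eq_zero.1 h2).resolve_left hne))
      obtain ⟨e'⟩ := Groth.L22.length_surjections_eq
        ((LinearMap.range (mulx A N x)).mkQ ∘ₗ eA.symm.toLinearMap ∘ₗ (Ideal.Quotient.mkₐ A q.asIdeal).toLinearMap)
        ((Ideal.Quotient.mkₐ A (q.asIdeal ⊔ Ideal.span {x})).toLinearMap)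
        ((Submodule.mkQ_surjective _).comp (eA.symm.surjective.comp Ideal.Quotient.mk_surjective))
        Ideal.Quotient.mk_surjective (by
          ext d
          rw [LinearMap.mem_ker, LinearMap.mem_ker]
          change (LinearMap.range (mulx A N x)).mkQ (e.symm (Ideal.Quotient.mk _ d)) = 0 ↔ Ideal.Quotient.mk _ d = 0
          rw [Submodule.mkQ_apply, Submodule.Quotient.mk_eq_zero, Ideal.Quotient.eq_zero_iff_mem, LinearMap.mem_range]
          constructor
          · rintro ⟨z, hz⟩
            obtain ⟨w, hw⟩ := Ideal.Quotient.mk_surjective (e z)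
            have h2 := congrArg e hz
            rw [show mulx A N x z = x • z from rfl, ecomm, e.apply_symm_apply, ← hw, ← map_mul,
              Ideal.Quotient.eq] at h2
            exact Submodule.mem_sup.mpr ⟨-(x * w - d), neg_mem h2, x * w,
              Ideal.mem_span_singleton'.mpr ⟨w, mul_comm _ _⟩, by ring⟩
          · intro hd
            obtain ⟨a, ha, b, hb, rfl⟩ := Submodule.mem_sup.mp hd
            obtain ⟨w, rfl⟩ := Ideal.mem_span_singleton'.mp hb
            refine ⟨e.symm (Ideal.Quotient.mk _ w), ?_⟩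
            rw [map_add, Ideal.Quotient.eq_zero_iff_mem.mpr ha, zero_add]
            apply e.injective
            rw [show mulx A N x _ = x • e.symm _ from rfl, ecomm, e.apply_symm_apply, e.apply_symm_apply, ← map_mul, mul_comm])
      have hfin : Module.length A (D ⧸ (q.asIdeal ⊔ Ideal.span {x})) ≠ ⊤ := length_quot_ne_top _ fun P hP hle => by
        have hxP : x ∈ P := hle (Ideal.mem_sup_right (Ideal.subset_span rfl))
        exact ((hcls ⟨P, hP⟩ (hle (Ideal.mem_sup_left hyq))).resolve_left fun h => hxQ _ h hxP)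
      have h1 : Module.length A (LinearMap.ker (mulx A N x)) = 0 := by rw [hker, Module.length_bot]
      refine ⟨⟨by rw [length_perH_ker, h1]; simp, by rw [length_perH_coker, e'.length_eq]; exact hfin.lt_top⟩, hl', ?_⟩
      rw [herbrand, length_perH_ker, length_perH_coker, h1, e'.length_eq, Finset.sum_eq_single q
        (fun P hP hne' => by rw [wt, hl P hne' hP]; simp) (fun h => absurd hq h), wt, locLen_congr e, locLen_quotient]
      simp
    · haveI hmax : q.asIdeal.IsMaximal := (hcls q hyq).resolve_left hq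
      have hfin : Module.length A N ≠ ⊤ := by
        rw [eA.length_eq]
        exact length_quot_ne_top _ fun P hP hle => hmax.eq_of_le hP.ne_top hle ▸ hmax
      obtain ⟨h1, h2⟩ := herbrand_zero_of_finite (mulx A N x) hfin
      refine ⟨h1, hl', ?_⟩
      rw [h2, neg_zero, Finset.sum_eq_zero fun P hP => by
        rw [wt, hl P (fun h => hq (h ▸ hP)) hP]; simp]
  | exact N₁ N₂ N₃ f g hf hg hfg i₁ i₃ =>
    intro _ _ hy
    letI : Module A N₁ := Module.compHom N₁ (algebraMap A D)
    haveI : IsScalarTower A D N₁ := IsScalarTower.of_algebraMap_smul fun _ _ => rfl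
    letI : Module A N₃ := Module.compHom N₃ (algebraMap A D)
    haveI : IsScalarTower A D N₃ := IsScalarTower.of_algebraMap_smul fun _ _ => rfl
    obtain ⟨f₁, l₁, k₁⟩ := i₁ fun m => hf (by rw [map_smul, hy, map_zero])
    obtain ⟨f₃, l₃, k₃⟩ := i₃ fun m => by
      obtain ⟨m, rfl⟩ := hg m
      rw [← map_smul, hy, map_zero]
    have hfgA : LinearMap.range (f.restrictScalars A) = LinearMap.ker (g.restrictScalars A) := by
      ext z
      exact (hfg z).symm
    obtain ⟨-, f₂, -, key⟩ := Groth.L22.herbrand_shortExact (mulx A N₁ x) 0 (mulx A N₂ x) 0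
      (mulx A N₃ x) 0 ⟨LinearMap.comp_zero _, LinearMap.zero_comp _⟩
      (f.restrictScalars A) (f.restrictScalars A) (g.restrictScalars A) (g.restrictScalars A)
      (by ext z; simp [mulx]) (by simp) (by ext z; simp [mulx]) (by simp) hf hf hg hg hfgA hfgA
      (Or.inr (Or.inl ⟨f₁, f₃⟩))
    refine ⟨f₂, fun P hP => ?_, ?_⟩
    · rw [locLen_add f g hf hg hfg]; exact WithTop.add_ne_top.mpr ⟨l₁ P hP, l₃ P hP⟩
    · rw [key, neg_add, k₁, k₃, ← Finset.sum_add_distrib]
      refine Finset.sum_congr rfl fun P hP => ?_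
      rw [wt, wt, wt, locLen_add f g hf hg hfg, ENat.toNat_add (l₁ P hP) (l₃ P hP)]
      push_cast
      ring

omit [IsNoetherianRing A] [IsLocalRing A] [IsNoetherianRing D] [Module.Finite A D] in
/-- the quotient of `y` by `x` against the quotient of `x` by `y` -/
theorem herbrand_symm (x y : D) (hx : x ∈ nonZeroDivisors D) (hy : y ∈ nonZeroDivisors D) :
    herbrand A (mulx A (D ⧸ Ideal.span {y}) x) 0 = herbrand A (mulx A (D ⧸ Ideal.span {x}) y) 0 := by
  have hc : ∀ a b : D, ∀ d : D, Submodule.mkQ (LinearMap.range (mulx A (D ⧸ Ideal.span {b}) a))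
      (Ideal.Quotient.mk (Ideal.span {b}) d) = 0 ↔ d ∈ Ideal.span {b} ⊔ Ideal.span {a} := by
    intro a b d
    rw [Submodule.mkQ_apply, Submodule.Quotient.mk_eq_zero, LinearMap.mem_range]
    constructor
    · rintro ⟨z, hz⟩
      obtain ⟨w, rfl⟩ := Ideal.Quotient.mk_surjective z
      rw [show mulx A _ a (Ideal.Quotient.mk _ w) = Ideal.Quotient.mk _ (a * w) from rfl, Ideal.Quotient.eq] at hz
      exact Submodule.mem_sup.mpr ⟨-(a * w - d), neg_mem hz, a * w,
        Ideal.mem_span_singleton'.mpr ⟨w, mul_comm _ _⟩, by ring⟩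
    · intro hd
      obtain ⟨s, hs, t, ht, rfl⟩ := Submodule.mem_sup.mp hd
      obtain ⟨w, rfl⟩ := Ideal.mem_span_singleton'.mp ht
      refine ⟨Ideal.Quotient.mk _ w, ?_⟩
      rw [show mulx A _ a (Ideal.Quotient.mk _ w) = Ideal.Quotient.mk _ (a * w) from rfl, map_add,
        Ideal.Quotient.eq_zero_iff_mem.mpr hs, zero_add, mul_comm]
  have h1 : Module.length A ((D ⧸ Ideal.span {y}) ⧸ LinearMap.range (mulx A (D ⧸ Ideal.span {y}) x)) =
      Module.length A ((D ⧸ Ideal.span {x}) ⧸ LinearMap.range (mulx A (D ⧸ Ideal.span {x}) y)) := by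
    obtain ⟨e⟩ := Groth.L22.length_surjections_eq
      ((LinearMap.range (mulx A (D ⧸ Ideal.span {y}) x)).mkQ ∘ₗ (Ideal.Quotient.mkₐ A (Ideal.span {y})).toLinearMap)
      ((LinearMap.range (mulx A (D ⧸ Ideal.span {x}) y)).mkQ ∘ₗ (Ideal.Quotient.mkₐ A (Ideal.span {x})).toLinearMap)
      ((Submodule.mkQ_surjective _).comp Ideal.Quotient.mk_surjective)
      ((Submodule.mkQ_surjective _).comp Ideal.Quotient.mk_surjective) (by
        ext d
        rw [LinearMap.mem_ker, LinearMap.mem_ker]
        exact (hc x y d).trans (by rw [sup_comm]; exact (hc y x d).symm))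
    exact e.length_eq
  have h2 : Module.length A (LinearMap.ker (mulx A (D ⧸ Ideal.span {y}) x)) =
      Module.length A (LinearMap.ker (mulx A (D ⧸ Ideal.span {x}) y)) := by
    let S : Submodule A (D × D) :=
      LinearMap.ker ((LinearMap.mulLeft A x).comp (LinearMap.fst A D D) - (LinearMap.mulLeft A y).comp (LinearMap.snd A D D))
    have hS : ∀ v : S, x * v.1.1 = y * v.1.2 := fun v => sub_eq_zero.mp v.2
    let p : S →ₗ[A] LinearMap.ker (mulx A (D ⧸ Ideal.span {y}) x) :=
      LinearMap.codRestrict _ ((Ideal.Quotient.mkₐ A (Ideal.span {y})).toLinearMap ∘ₗ LinearMap.fst A D D ∘ₗ S.subtype)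
        fun v => LinearMap.mem_ker.mpr (Ideal.Quotient.eq_zero_iff_mem.mpr
          (Ideal.mem_span_singleton'.mpr ⟨v.1.2, by rw [mul_comm]; exact (hS v).symm⟩) :
          Ideal.Quotient.mk (Ideal.span {y}) (x * v.1.1) = 0)
    let q : S →ₗ[A] LinearMap.ker (mulx A (D ⧸ Ideal.span {x}) y) :=
      LinearMap.codRestrict _ ((Ideal.Quotient.mkₐ A (Ideal.span {x})).toLinearMap ∘ₗ LinearMap.snd A D D ∘ₗ S.subtype)
        fun v => LinearMap.mem_ker.mpr (Ideal.Quotient.eq_zero_iff_mem.mpr
          (Ideal.mem_span_singleton'.mpr ⟨v.1.1, by rw [mul_comm]; exact hS v⟩) :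
          Ideal.Quotient.mk (Ideal.span {x}) (y * v.1.2) = 0)
    obtain ⟨e⟩ := Groth.L22.length_surjections_eq p q (by
      rintro ⟨z, hz⟩
      obtain ⟨z, rfl⟩ := Ideal.Quotient.mk_surjective z
      have h : x * z ∈ Ideal.span {y} := Ideal.Quotient.eq_zero_iff_mem.mp hz
      obtain ⟨w, hw⟩ := Ideal.mem_span_singleton'.mp h
      exact ⟨⟨(z, w), sub_eq_zero.mpr (by change x * z = y * w; rw [← hw, mul_comm])⟩, rfl⟩) (by
      rintro ⟨z, hz⟩
      obtain ⟨z, rfl⟩ := Ideal.Quotient.mk_surjective z
      have h : y * z ∈ Ideal.span {x} := Ideal.Quotient.eq_zero_iff_mem.mp hz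
      obtain ⟨w, hw⟩ := Ideal.mem_span_singleton'.mp h
      exact ⟨⟨(w, z), sub_eq_zero.mpr (by change x * w = y * z; rw [← hw, mul_comm])⟩, rfl⟩) (by
      ext v
      rw [LinearMap.mem_ker, LinearMap.mem_ker, Subtype.ext_iff, Subtype.ext_iff]
      change Ideal.Quotient.mk _ v.1.1 = 0 ↔ Ideal.Quotient.mk _ v.1.2 = 0
      rw [Ideal.Quotient.eq_zero_iff_mem, Ideal.Quotient.eq_zero_iff_mem]
      have h := hS v
      constructor
      · intro hz
        obtain ⟨t, ht⟩ := Ideal.mem_span_singleton'.mp hz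
        refine Ideal.mem_span_singleton'.mpr ⟨t, (mul_cancel_left_mem_nonZeroDivisors hy).mp ?_⟩
        rw [← h, ← ht]; ring
      · intro hz
        obtain ⟨t, ht⟩ := Ideal.mem_span_singleton'.mp hz
        refine Ideal.mem_span_singleton'.mpr ⟨t, (mul_cancel_left_mem_nonZeroDivisors hx).mp ?_⟩
        rw [h, ← ht]; ring)
    exact e.length_eq
  simp only [herbrand, length_perH_ker, length_perH_coker, h1, h2]

end Groth.L15.Key
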