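import Groth.Agent.L15.Key.Local
import Groth.Agent.L15.Key.EFormula
import Mathlib.RingTheory.Localization.LocalizationLocalization

/-!
The pairing vanishes on two elements of a finite birational extension which have no common prime
above a height-one prime.
-/

set_option autoImplicit false
set_option maxSynthPendingDepth 5
universe u

noncomputable section

namespace Groth.L15.Key

open CycAlg Groth.L22.QuotLength

variable {A : Type u} [CommRing A]

/-- primes over height-one primes -/
def overHt1 (D : Subalgebra A (FractionRing A)) : Set (PrimeSpectrum D) :=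
  {P | PrimeSpectrum.comap (algebraMap A D) P ∈ ht1 A}

theorem mul_eq_of_isUnit {D : Subalgebra A (FractionRing A)} (x : D) (hx : IsUnit (x : FractionRing A)) :
    ∃ u v : A, u ∈ nonZeroDivisors A ∧ v ∈ nonZeroDivisors A ∧
      algebraMap A D v * x = algebraMap A D u := by
  obtain ⟨u, v, hu, hv, h⟩ := exists_rep hx
  exact ⟨u, v, hu, hv, Subtype.ext ((mul_comm _ _).trans h)⟩

theorem exists_nzd_mem {D : Subalgebra A (FractionRing A)} {x : D} (hx : IsUnit (x : FractionRing A))
    {P : Ideal D} (hxP : x ∈ P) : ∃ u ∈ nonZeroDivisors A, u ∈ P.comap (algebraMap A D) := by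
  obtain ⟨u, v, hu, -, h⟩ := mul_eq_of_isUnit x hx
  exact ⟨u, hu, by rw [Ideal.mem_comap, ← h]; exact P.mul_mem_left _ hxP⟩

theorem mem_nzd_sub {D : Subalgebra A (FractionRing A)} {x : D} (hx : IsUnit (x : FractionRing A)) :
    x ∈ nonZeroDivisors D :=
  mem_nonZeroDivisors_iff_right.mpr fun y hy =>
    Subtype.ext (hx.mul_left_eq_zero.mp (congrArg Subtype.val hy))

theorem height_ne_zero {p : Ideal A} [p.IsPrime] {u : A} (hu : u ∈ nonZeroDivisors A) (hup : u ∈ p) :
    p.height ≠ 0 := fun h0 =>
  Set.disjoint_iff.mp (Ideal.disjoint_nonZeroDivisors_of_mem_minimalPrimes (Ideal.height_eq_zero_iff.mp h0))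
    ⟨hup, hu⟩

variable [IsNoetherianRing A] [IsLocalRing A]

theorem eq_maximal_of_not_ht1 (hA : ringKrullDim A = 2) (p : PrimeSpectrum A) {u : A}
    (hu : u ∈ nonZeroDivisors A) (hup : u ∈ p.asIdeal) (hp : p ∉ ht1 A) :
    p.asIdeal = IsLocalRing.maximalIdeal A := by
  by_contra hne
  have hlt : p.asIdeal < IsLocalRing.maximalIdeal A :=
    lt_of_le_of_ne (IsLocalRing.le_maximalIdeal p.2.ne_top) hne
  have h1 := Ideal.height_add_one_le_of_lt_of_isPrime hlt
  have h2 : (IsLocalRing.maximalIdeal A).height = 2 := by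
    have := IsLocalRing.maximalIdeal_height_eq_ringKrullDim (R := A)
    rw [hA] at this
    exact WithBot.coe_injective this
  rw [h2] at h1
  have h0 := height_ne_zero hu hup
  refine hp ?_
  change p.asIdeal.height = 1
  cases h : p.asIdeal.height with
  | top => rw [h] at h1; simp at h1
  | coe n =>
    rw [h] at h1 h0
    norm_cast at h1 h0 ⊢
    omega

theorem isMaximal_of_not_overHt1 (hA : ringKrullDim A = 2) {D : Subalgebra A (FractionRing A)}
    [Module.Finite A D] {x : D} (hx : IsUnit (x : FractionRing A)) {P : PrimeSpectrum D}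
    (hxP : x ∈ P.asIdeal) (hP : P ∉ overHt1 D) : P.asIdeal.IsMaximal := by
  obtain ⟨u, hu, hup⟩ := exists_nzd_mem hx hxP
  refine Ideal.isMaximal_of_isIntegral_of_isMaximal_comap (R := A) P.asIdeal ?_
  have h := eq_maximal_of_not_ht1 hA (PrimeSpectrum.comap (algebraMap A D) P) hu hup hP
  change (PrimeSpectrum.comap (algebraMap A D) P).asIdeal.IsMaximal
  rw [h]
  exact IsLocalRing.maximalIdeal.isMaximal A

theorem eq_of_le_overHt1 {D : Subalgebra A (FractionRing A)}
    [Module.Finite A D] {x : D} (hx : IsUnit (x : FractionRing A)) {P P' : PrimeSpectrum D}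
    (hxP : x ∈ P.asIdeal) (hle : P.asIdeal ≤ P'.asIdeal) (hP' : P' ∈ overHt1 D) : P = P' := by
  by_contra hne
  obtain ⟨z, hz'⟩ := Set.not_subset.mp (show ¬ P'.asIdeal ≤ P.asIdeal from fun h =>
    hne (PrimeSpectrum.ext (le_antisymm hle h)))
  have hlt := Ideal.comap_lt_comap_of_integral_mem_sdiff (R := A) hle ⟨hz'.1, hz'.2⟩ (IsIntegral.of_finite A z)
  haveI : (P.asIdeal.comap (algebraMap A D)).IsPrime := inferInstance
  obtain ⟨u, hu, hup⟩ := exists_nzd_mem hx hxP
  have h1 := Ideal.height_add_one_le_of_lt_of_isPrime hlt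
  have h0 := height_ne_zero hu hup
  rw [show (P'.asIdeal.comap (algebraMap A D)).height = 1 from hP'] at h1
  cases h : (P.asIdeal.comap (algebraMap A D)).height with
  | top => rw [h] at h1; simp at h1
  | coe n =>
    rw [h] at h1 h0
    norm_cast at h1 h0
    omega

variable {p : PrimeSpectrum A} {D : Subalgebra A (FractionRing A)}

omit [IsNoetherianRing A] [IsLocalRing A] in
theorem pr_injective : Function.Injective (pr (p := p) (D := D)) := fun q q' h => by
  refine MaximalSpectrum.ext ?_
  rw [← IsLocalization.map_under (Algebra.algebraMapSubmonoid D p.asIdeal.primeCompl) (loc p D) q.asIdeal,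
    ← IsLocalization.map_under (Algebra.algebraMapSubmonoid D p.asIdeal.primeCompl) (loc p D) q'.asIdeal]
  exact congrArg (Ideal.map _) h

omit [IsNoetherianRing A] [IsLocalRing A] in
theorem ordAtPt_eq (q : MaximalSpectrum (loc p D)) (y : D) :
    ordAtPt q y = (locLen (D ⧸ Ideal.span {y}) ⟨pr q, inferInstance⟩).toNat := by
  let P := pr q
  let LP := Localization.AtPrime P
  let Lq := Localization.AtPrime q.asIdeal
  haveI : IsLocalization.AtPrime Lq P :=
    IsLocalization.isLocalization_isLocalization_atPrime_isLocalization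
      (Algebra.algebraMapSubmonoid D p.asIdeal.primeCompl) (S := loc p D) Lq q.asIdeal
  let e : LP ≃ₐ[D] Lq := IsLocalization.algEquiv P.primeCompl LP Lq
  let y' := algebraMap (loc p D) Lq (algebraMap D (loc p D) y)
  let φ : LP →+* Lq ⧸ Ideal.span {y'} := (Ideal.Quotient.mk _).comp e.toRingEquiv.toRingHom
  letI : Algebra LP (Lq ⧸ Ideal.span {y'}) := φ.toAlgebra
  have hsurj : Function.Surjective φ := Ideal.Quotient.mk_surjective.comp e.surjective
  have hker : RingHom.ker φ = Ideal.span {algebraMap D LP y} := by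
    ext z
    rw [RingHom.mem_ker, RingHom.comp_apply, Ideal.Quotient.eq_zero_iff_mem, Ideal.mem_span_singleton',
      Ideal.mem_span_singleton']
    constructor
    · rintro ⟨a, ha⟩
      refine ⟨e.symm a, e.injective ?_⟩
      rw [map_mul, e.apply_symm_apply, e.commutes, IsScalarTower.algebraMap_apply D (loc p D) Lq]
      exact ha
    · rintro ⟨a, rfl⟩
      exact ⟨e a, by rw [show e.toRingEquiv.toRingHom (a * algebraMap D LP y) = e (a * algebraMap D LP y) from rfl,
        map_mul, e.commutes, IsScalarTower.algebraMap_apply D (loc p D) Lq]⟩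
  have h1 : Module.length LP (LP ⧸ Ideal.span {algebraMap D LP y}) = Module.length LP (Lq ⧸ Ideal.span {y'}) := by
    rw [← hker]
    exact ((Ideal.quotientKerAlgEquivOfSurjective (f := Algebra.ofId LP (Lq ⧸ Ideal.span {y'})) hsurj).toLinearEquiv).length_eq
  have h2 : Module.length LP (Lq ⧸ Ideal.span {y'}) = Module.length (Lq ⧸ Ideal.span {y'}) (Lq ⧸ Ideal.span {y'}) :=
    Module.length_eq_of_surjective (R := Lq ⧸ Ideal.span {y'}) (S := LP) hsurj
  have h3 : Module.length Lq (Lq ⧸ Ideal.span {y'}) = Module.length (Lq ⧸ Ideal.span {y'}) (Lq ⧸ Ideal.span {y'}) :=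
    Module.length_eq_of_surjective (R := Lq ⧸ Ideal.span {y'}) (S := Lq) Ideal.Quotient.mk_surjective
  have h4 : locLen (D ⧸ Ideal.span {y}) ⟨pr q, inferInstance⟩ =
      Module.length LP (LP ⧸ Ideal.span {algebraMap D LP y}) := by
    rw [length_locLen_quot, Ideal.map_span, Set.image_singleton]
  rw [ordAtPt, h4, h1, h2, ← h3]
  rfl
where
  length_locLen_quot {R : Type u} [CommRing R] {P : PrimeSpectrum R} {I : Ideal R} :
      locLen (R ⧸ I) P = Module.length (Localization.AtPrime P.asIdeal)
        (Localization.AtPrime P.asIdeal ⧸ I.map (algebraMap R (Localization.AtPrime P.asIdeal))) := by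
    let L := Localization.AtPrime P.asIdeal
    let e₀ : LocalizedModule P.asIdeal.primeCompl (R ⧸ I) := LocalizedModule.mk (Ideal.Quotient.mk _ 1) 1
    let f : L →ₗ[L] LocalizedModule P.asIdeal.primeCompl (R ⧸ I) := LinearMap.toSpanSingleton L _ e₀
    have hf0 : ∀ (b : R) (s : P.asIdeal.primeCompl), f (Localization.mk b s) = LocalizedModule.mk (Ideal.Quotient.mk I b) s := by
      intro b s
      change Localization.mk b s • e₀ = _
      rw [LocalizedModule.mk_smul_mk, mul_one]
      congr 1
      change Ideal.Quotient.mk I (b * 1) = _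
      rw [mul_one]
    have hf : Function.Surjective f := by
      intro z
      induction z using LocalizedModule.induction_on with
      | _ m s =>
        obtain ⟨b, rfl⟩ := Ideal.Quotient.mk_surjective m
        exact ⟨Localization.mk b s, hf0 b s⟩
    have hk : LinearMap.ker f = I.map (algebraMap R L) := by
      ext z
      induction z using Localization.induction_on with
      | H bs =>
        obtain ⟨b, s⟩ := bs
        rw [LinearMap.mem_ker, hf0, ← LocalizedModule.zero_mk s, LocalizedModule.mk_eq,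
          Localization.mk_eq_mk', IsLocalization.mk'_mem_map_algebraMap_iff]
        constructor
        · rintro ⟨t, ht⟩
          refine ⟨(t : R) * s, mul_mem t.2 s.2, ?_⟩
          simp only [smul_zero, Submonoid.smul_def, smul_smul] at ht
          rw [← Ideal.Quotient.eq_zero_iff_mem, ← ht]
          rfl
        · rintro ⟨t, ht, htb⟩
          refine ⟨⟨t, ht⟩, ?_⟩
          simp only [smul_zero, Submonoid.smul_def, smul_smul]
          have : (t * (s : R)) • Ideal.Quotient.mk I b = Ideal.Quotient.mk I ((t * s) * b) := rfl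
          rw [this, Ideal.Quotient.eq_zero_iff_mem]
          simpa [mul_comm t, mul_assoc] using I.mul_mem_left (s : R) htb
    exact ((f.quotKerEquivOfSurjective hf).symm.trans (Submodule.quotEquivOfEq _ _ hk)).length_eq

/-- the pairing of two elements with no common prime over a height-one prime is zero -/
theorem Psi_eq_zero (hA : ringKrullDim A = 2) (C : Subalgebra A (FractionRing A)) [Module.Finite A C]
    (x y : C) (hx : IsUnit (x : FractionRing A)) (hy : IsUnit (y : FractionRing A))
    (hco : ∀ P ∈ overHt1 C, x ∈ P.asIdeal → y ∈ P.asIdeal → False) :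
    Psi (x : FractionRing A) (y : FractionRing A) = 0 := by
  classical
  obtain ⟨r, hr, hrC⟩ := exists_bound C
  obtain ⟨u, hu'⟩ := hrC x x.2
  obtain ⟨s, hs'⟩ := hrC y y.2
  have hu : u ∈ nonZeroDivisors A := nzd_of_isUnit (by rw [hu']; exact (isUnit_map hr).mul hx)
  have hs : s ∈ nonZeroDivisors A := nzd_of_isUnit (by rw [hs']; exact (isUnit_map hr).mul hy)
  let F := (finite_ht1 (mul_mem (mul_mem hu hs) hr)).toFinset
  have hF : ∀ p ∈ F, p ∈ ht1 A := fun p hp => ((Set.Finite.mem_toFinset _).mp hp).1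
  have hFmem : ∀ p ∈ ht1 A, (u ∈ p.asIdeal ∨ s ∈ p.asIdeal ∨ r ∈ p.asIdeal) → p ∈ F := fun p hp h =>
    (Set.Finite.mem_toFinset _).mpr ⟨hp, by
      rcases h with h | h | h
      · exact Ideal.mul_mem_right _ _ (Ideal.mul_mem_right _ _ h)
      · exact Ideal.mul_mem_right _ _ (Ideal.mul_mem_left _ _ h)
      · exact Ideal.mul_mem_left _ _ h⟩
  let S : Finset (FractionRing A) :=
    {(x : FractionRing A), (y : FractionRing A), algebraMap A (FractionRing A) r}
  obtain ⟨D, hCD, hDfin, hfine⟩ := exists_fine_all F hF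
    (fun p hp => ⟨u * s * r, mul_mem (mul_mem hu hs) hr, ((Set.Finite.mem_toFinset _).mp hp).2⟩) C S
    (fun z hz => by
      simp only [S, Finset.mem_insert, Finset.mem_singleton] at hz
      rcases hz with rfl | rfl | rfl
      exacts [x.2, y.2, C.algebraMap_mem r])
    (fun z hz => by
      simp only [S, Finset.mem_insert, Finset.mem_singleton] at hz
      rcases hz with rfl | rfl | rfl
      exacts [hx, hy, isUnit_map hr])
  haveI := hDfin
  haveI : IsNoetherianRing D := IsNoetherianRing.of_finite A D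
  let x' : D := Subalgebra.inclusion hCD x
  let y' : D := Subalgebra.inclusion hCD y
  have hxu : algebraMap A D r * x' = algebraMap A D u := Subtype.ext hu'.symm
  have hys : algebraMap A D r * y' = algebraMap A D s := Subtype.ext hs'.symm
  have hcoD : ∀ P : PrimeSpectrum D, P ∈ overHt1 D → x' ∈ P.asIdeal → y' ∈ P.asIdeal → False :=
    fun P hP h1 h2 => hco (PrimeSpectrum.comap (Subalgebra.inclusion hCD).toRingHom P)
      (by
        change PrimeSpectrum.comap (algebraMap A C) _ ∈ ht1 A
        exact hP) h1 h2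
  let T : (p : PrimeSpectrum A) → D → D → ℤ := fun p a b =>
    ∑ᶠ q : MaximalSpectrum (loc p D), ((ordAtPt q b : ℤ) * lam (pr q) a)
  have hloc : ∀ p ∈ F, phi p u s - phi p u r - phi p r s + phi p r r = T p x' y' - T p y' x' := by
    intro p hp
    haveI := finite_loc p D
    haveI := Groth.L15.Tame.finite_spectrum (A := Localization.AtPrime p.asIdeal) (B := loc p D)
    haveI := Fintype.ofFinite (MaximalSpectrum (loc p D))
    have h := phi_formula hA (hF p hp) hr hu hs x' y' hxu hys S (by simp [S, x']) (by simp [S, y'])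
      (by simp [S]) (hfine D le_rfl hDfin p hp) (fun q h1 h2 => hcoD ⟨pr q, inferInstance⟩
        (by
          change (⟨(pr q).comap (algebraMap A D), _⟩ : PrimeSpectrum A) ∈ ht1 A
          change ((pr q).comap (algebraMap A D)).height = 1
          rw [pr_comap (hF p hp) q]; exact hF p hp) h1 h2)
    simp only [T, finsum_eq_sum_of_fintype] at h ⊢
    rw [← Finset.sum_sub_distrib]
    linarith
  have hval : Psi (x : FractionRing A) (y : FractionRing A) = ∑ p ∈ F, (T p x' y' - T p y' x') := by
    rw [Psi_eq hA hu hr hs hr (by rw [hu', mul_comm]) (by rw [hs', mul_comm])]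
    have hPhi : ∀ a b : A, a ∈ nonZeroDivisors A → b ∈ nonZeroDivisors A →
        (∀ p ∈ ht1 A, p ∉ F → a ∉ p.asIdeal ∧ b ∉ p.asIdeal) → Phi a b = ∑ p ∈ F, phi p a b := by
      intro a b ha hb h
      rw [Phi, finsum_mem_eq_sum_of_inter_support_eq]
      ext p
      constructor
      · rintro ⟨hp, hne⟩
        refine ⟨?_, hne⟩
        by_contra hpF
        exact hne (phi_eq_zero hA hp hb (h p hp hpF).1 (h p hp hpF).2)
      · rintro ⟨hp, hne⟩
        exact ⟨hF p hp, hne⟩
    have hout : ∀ p ∈ ht1 A, p ∉ F → u ∉ p.asIdeal ∧ s ∉ p.asIdeal ∧ r ∉ p.asIdeal := fun p hp hpF =>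
      ⟨fun h => hpF (hFmem p hp (Or.inl h)), fun h => hpF (hFmem p hp (Or.inr (Or.inl h))),
        fun h => hpF (hFmem p hp (Or.inr (Or.inr h)))⟩
    rw [hPhi u s hu hs (fun p hp hpF => ⟨(hout p hp hpF).1, (hout p hp hpF).2.1⟩),
      hPhi u r hu hr (fun p hp hpF => ⟨(hout p hp hpF).1, (hout p hp hpF).2.2⟩),
      hPhi r s hr hs (fun p hp hpF => ⟨(hout p hp hpF).2.2, (hout p hp hpF).2.1⟩),
      hPhi r r hr hr (fun p hp hpF => ⟨(hout p hp hpF).2.2, (hout p hp hpF).2.2⟩),
      ← Finset.sum_sub_distrib, ← Finset.sum_sub_distrib, ← Finset.sum_add_distrib]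
    exact Finset.sum_congr rfl hloc
  have hsum : ∀ a b : D, IsUnit (a : FractionRing A) → IsUnit (b : FractionRing A) →
      (∀ P : PrimeSpectrum D, P ∈ overHt1 D → a ∈ P.asIdeal → b ∈ P.asIdeal → False) →
      (∀ P : PrimeSpectrum D, P ∈ overHt1 D → b ∈ P.asIdeal →
        PrimeSpectrum.comap (algebraMap A D) P ∈ F) →
      ∑ p ∈ F, T p a b = -herbrand A (mulx A (D ⧸ Ideal.span {b}) a) 0 := by
    intro a b _ hb hab hbF
    have hfin : ∀ p : PrimeSpectrum A, Finite (MaximalSpectrum (loc p D)) := fun p =>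
      haveI := finite_loc p D
      Groth.L15.Tame.finite_spectrum (A := Localization.AtPrime p.asIdeal)
    letI : ∀ p : PrimeSpectrum A, Fintype (MaximalSpectrum (loc p D)) := fun p =>
      haveI := hfin p
      Fintype.ofFinite _
    let SS := F.sigma fun p => (Finset.univ : Finset (MaximalSpectrum (loc p D)))
    let ι : (Σ p : PrimeSpectrum A, MaximalSpectrum (loc p D)) → PrimeSpectrum D := fun v => ⟨pr v.2, inferInstance⟩
    have hcomap : ∀ v ∈ SS, PrimeSpectrum.comap (algebraMap A D) (ι v) = v.1 := fun v hv =>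
      PrimeSpectrum.ext (pr_comap (hF v.1 (Finset.mem_sigma.mp hv).1) v.2)
    have hinj : Set.InjOn ι SS := by
      rintro ⟨p, q⟩ hv ⟨p', q'⟩ hw h
      obtain rfl : p = p' :=
        (hcomap ⟨p, q⟩ hv).symm.trans ((congrArg _ h).trans (hcomap ⟨p', q'⟩ hw))
      obtain rfl : q = q' := pr_injective (congrArg PrimeSpectrum.asIdeal h)
      rfl
    let Q := (SS.image ι).filter fun P => b ∈ P.asIdeal
    have hQ : ∀ P ∈ Q, P ∈ overHt1 D ∧ b ∈ P.asIdeal := by
      intro P hP
      obtain ⟨h1, h2⟩ := Finset.mem_filter.mp hP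
      obtain ⟨v, hv, rfl⟩ := Finset.mem_image.mp h1
      refine ⟨?_, h2⟩
      change PrimeSpectrum.comap (algebraMap A D) (ι v) ∈ ht1 A
      rw [hcomap v hv]
      exact hF _ (Finset.mem_sigma.mp hv).1
    have hcls : ∀ P : PrimeSpectrum D, b ∈ P.asIdeal → P ∈ Q ∨ P.asIdeal.IsMaximal := by
      intro P hbP
      by_cases hP : P ∈ overHt1 D
      · refine Or.inl (Finset.mem_filter.mpr ⟨Finset.mem_image.mpr ?_, hbP⟩)
        let p := PrimeSpectrum.comap (algebraMap A D) P
        have hne : P.asIdeal.map (algebraMap D (loc p D)) ≠ ⊤ := by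
          rw [IsLocalization.map_algebraMap_ne_top_iff_disjoint (Algebra.algebraMapSubmonoid D p.asIdeal.primeCompl) (loc p D),
            Set.disjoint_left]
          rintro _ ⟨a, ha, rfl⟩ h
          exact ha h
        obtain ⟨q, hq, hle⟩ := Ideal.exists_le_maximal _ hne
        refine ⟨⟨p, ⟨q, hq⟩⟩, Finset.mem_sigma.mpr ⟨hbF P hP hbP, Finset.mem_univ _⟩, ?_⟩
        refine (eq_of_le_overHt1 hb hbP (P' := ι ⟨p, ⟨q, hq⟩⟩) (Ideal.map_le_iff_le_comap.mp hle) ?_).symm
        change ((pr (⟨q, hq⟩ : MaximalSpectrum (loc p D))).comap (algebraMap A D)).height = 1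
        rw [pr_comap hP]
        exact hP
      · exact Or.inr (isMaximal_of_not_overHt1 hA hb hbP hP)
    obtain ⟨-, -, hE⟩ := herbrand_eq_sum (A := A) a b Q hcls
      (fun P' hP' P hbP hle => eq_of_le_overHt1 hb hbP hle (hQ P' hP').1)
      (fun P hP h => hab P (hQ P hP).1 h (hQ P hP).2) (fun P hP => (hQ P hP).2)
      (D ⧸ Ideal.span {b}) (fun m => by
        obtain ⟨m, rfl⟩ := Ideal.Quotient.mk_surjective m
        exact Ideal.Quotient.eq_zero_iff_mem.mpr (Ideal.mem_span_singleton'.mpr ⟨m, mul_comm _ _⟩))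
    rw [hE]
    calc ∑ p ∈ F, T p a b = ∑ v ∈ SS, (ordAtPt v.2 b : ℤ) * lam (pr v.2) a := by
          rw [Finset.sum_sigma]
          exact Finset.sum_congr rfl fun p _ => finsum_eq_sum_of_fintype _
      _ = ∑ v ∈ SS, wt A a (D ⧸ Ideal.span {b}) (ι v) :=
          Finset.sum_congr rfl fun v _ => by rw [wt, ordAtPt_eq]; rfl
      _ = ∑ P ∈ SS.image ι, wt A a (D ⧸ Ideal.span {b}) P := (Finset.sum_image hinj).symm
      _ = ∑ P ∈ Q, wt A a (D ⧸ Ideal.span {b}) P :=
          (Finset.sum_filter_of_ne fun P _ hne => by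
            by_contra hbP
            refine hne ?_
            rw [wt, locLen_eq_zero (by
              rw [Module.support_eq_zeroLocus, Ideal.annihilator_quotient]
              exact fun h => hbP (h (Ideal.subset_span rfl)))]
            simp).symm
  have hdiv : ∀ (z : D) (w : A), algebraMap A D r * z = algebraMap A D w →
      (∀ p ∈ ht1 A, w ∈ p.asIdeal → p ∈ F) → ∀ P : PrimeSpectrum D, P ∈ overHt1 D → z ∈ P.asIdeal →
        PrimeSpectrum.comap (algebraMap A D) P ∈ F := fun z w h hw P hP hz =>
    hw _ hP (by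
      change algebraMap A D w ∈ P.asIdeal
      rw [← h]; exact P.asIdeal.mul_mem_left _ hz)
  rw [hval, Finset.sum_sub_distrib,
    hsum x' y' hx hy hcoD (hdiv y' s hys fun p hp h => hFmem p hp (Or.inr (Or.inl h))),
    hsum y' x' hy hx (fun P hP h1 h2 => hcoD P hP h2 h1) (hdiv x' u hxu fun p hp h => hFmem p hp (Or.inl h)),
    herbrand_symm x' y' (mem_nzd_sub hx) (mem_nzd_sub hy)]
  ring

end Groth.L15.Key
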