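import Groth.Agent.L15.Key.Birat
import Mathlib.RingTheory.Ideal.Over
import Mathlib.RingTheory.Ideal.Quotient.Operations

/-!
The term at one height-one prime for two elements of a finite birational extension without a common
prime above it.
-/

set_option autoImplicit false
set_option maxSynthPendingDepth 5
universe u

noncomputable section

namespace Groth.L15.Key

open IsLocalRing Groth.L15.Tame CycAlg

variable {A : Type u} [CommRing A]

variable {p : PrimeSpectrum A} {D : Subalgebra A (FractionRing A)}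

/-- the prime of `D` under a point of the localization -/
def pr (q : MaximalSpectrum (loc p D)) : Ideal D :=
  q.asIdeal.comap (algebraMap D (loc p D))

instance pr_isPrime (q : MaximalSpectrum (loc p D)) : (pr q).IsPrime :=
  haveI := q.isMaximal.isPrime
  inferInstanceAs (q.asIdeal.comap (algebraMap D (loc p D))).IsPrime

/-- local order -/
def ordAtPt (q : MaximalSpectrum (loc p D)) (x : D) : ℕ :=
  (Ring.ord (Localization.AtPrime q.asIdeal)
    (algebraMap (loc p D) (Localization.AtPrime q.asIdeal) (algebraMap D (loc p D) x))).toNat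

/-- length of the quotient by a prime and one element -/
def lam (P : Ideal D) (x : D) : ℕ := (Module.length A (D ⧸ (P ⊔ Ideal.span {x}))).toNat

theorem pr_comap [IsNoetherianRing A] (hp : p ∈ ht1 A) [Module.Finite A D]
    (q : MaximalSpectrum (loc p D)) : (pr q).comap (algebraMap A D) = p.asIdeal := by
  haveI := finite_loc p D
  rw [pr, Ideal.comap_comap, ← IsScalarTower.algebraMap_eq A D (loc p D),
    IsScalarTower.algebraMap_eq A (Localization.AtPrime p.asIdeal) (loc p D), ← Ideal.comap_comap,
    comap_eq q]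
  exact Localization.AtPrime.comap_maximalIdeal

theorem mem_pr_iff (q : MaximalSpectrum (loc p D)) (x : D) :
    x ∈ pr q ↔ ¬ IsUnit (algebraMap (loc p D) (Localization.AtPrime q.asIdeal) (algebraMap D (loc p D) x)) := by
  rw [← mem_nonunits_iff, ← mem_maximalIdeal,
    IsLocalization.AtPrime.to_map_mem_maximal_iff (Localization.AtPrime q.asIdeal) q.asIdeal]
  rfl

variable [IsNoetherianRing A] [IsLocalRing A] (hA : ringKrullDim A = 2) (hp : p ∈ ht1 A)
include hA hp

theorem ordFrac_norm [Module.Finite A D] (q : MaximalSpectrum (loc p D))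
    [IsLocalHom (algebraMap (Localization.AtPrime p.asIdeal) (Localization.AtPrime q.asIdeal))]
    (x : D) (hx : x ∉ pr q) :
    CycAlg.ordFrac (A ⧸ p.asIdeal) p.asIdeal.ResidueField
      (Algebra.norm (ResidueField (Localization.AtPrime p.asIdeal))
        (residue (Localization.AtPrime q.asIdeal)
          (algebraMap (loc p D) (Localization.AtPrime q.asIdeal) (algebraMap D (loc p D) x)))) =
      (lam (pr q) x : ℤ) := by
  haveI := dim_quot hA hp
  haveI := finite_loc p D
  let Ap := Localization.AtPrime p.asIdeal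
  let Lq := Localization.AtPrime q.asIdeal
  let L := ResidueField Lq
  let P := pr q
  haveI : IsLocalRing (A ⧸ p.asIdeal) := IsLocalRing.of_surjective' _ Ideal.Quotient.mk_surjective
  haveI : P.LiesOver p.asIdeal := ⟨(pr_comap hp q).symm⟩
  haveI : Module.Finite (A ⧸ p.asIdeal) (D ⧸ P) := Module.Finite.of_restrictScalars_finite A _ _
  have hinj : Function.Injective (algebraMap (A ⧸ p.asIdeal) (D ⧸ P)) := by
    rw [injective_iff_map_eq_zero]
    intro a ha
    obtain ⟨a, rfl⟩ := Ideal.Quotient.mk_surjective a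
    rw [Ideal.Quotient.eq_zero_iff_mem, ← pr_comap hp q, Ideal.mem_comap]
    exact Ideal.Quotient.eq_zero_iff_mem.mp ha
  let g : D →+* L := (residue Lq).comp ((algebraMap (loc p D) Lq).comp (algebraMap D (loc p D)))
  have hg : ∀ d : D, g d = 0 ↔ d ∈ P := fun d => by
    rw [mem_pr_iff, ← mem_nonunits_iff, ← mem_maximalIdeal]
    exact residue_eq_zero_iff _
  letI : Algebra (D ⧸ P) L := (Ideal.Quotient.lift P g fun d hd => (hg d).mpr hd).toAlgebra
  have hgA : ∀ a : A, g (algebraMap A D a) = algebraMap A L a := fun a => by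
    change residue Lq (algebraMap (loc p D) Lq (algebraMap D (loc p D) (algebraMap A D a))) = _
    rw [← IsScalarTower.algebraMap_apply A D (loc p D), ← IsScalarTower.algebraMap_apply A (loc p D) Lq]
    exact (IsScalarTower.algebraMap_apply A Lq L a).symm
  letI : Algebra (A ⧸ p.asIdeal) L :=
    ((algebraMap (ResidueField Ap) L).comp (algebraMap (A ⧸ p.asIdeal) p.asIdeal.ResidueField)).toAlgebra
  have hkA : ∀ a : A, algebraMap (ResidueField Ap) L (algebraMap A (ResidueField Ap) a) = algebraMap A L a := by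
    intro a
    change residue Lq (algebraMap Ap Lq (algebraMap A Ap a)) = _
    rw [← IsScalarTower.algebraMap_apply A Ap Lq]
    exact (IsScalarTower.algebraMap_apply A Lq L a).symm
  haveI : IsScalarTower (A ⧸ p.asIdeal) (ResidueField Ap) L := IsScalarTower.of_algebraMap_eq fun _ => rfl
  haveI : IsScalarTower (A ⧸ p.asIdeal) (D ⧸ P) L := IsScalarTower.of_algebraMap_eq fun a => by
    obtain ⟨a, rfl⟩ := Ideal.Quotient.mk_surjective a
    change algebraMap (ResidueField Ap) L
      (algebraMap (A ⧸ p.asIdeal) p.asIdeal.ResidueField (algebraMap A (A ⧸ p.asIdeal) a)) = g (algebraMap A D a)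
    rw [← IsScalarTower.algebraMap_apply A (A ⧸ p.asIdeal) p.asIdeal.ResidueField, hgA]
    exact hkA a
  have hinjL : Function.Injective (algebraMap (D ⧸ P) L) := by
    rw [injective_iff_map_eq_zero]
    intro d hd
    obtain ⟨d, rfl⟩ := Ideal.Quotient.mk_surjective d
    exact Ideal.Quotient.eq_zero_iff_mem.mpr ((hg d).mp hd)
  haveI : IsFractionRing (D ⧸ P) L :=
    { map_units := fun d => IsUnit.mk0 _ ((map_ne_zero_iff _ hinjL).mpr (nonZeroDivisors.ne_zero d.2))
      surj := fun z => by
        obtain ⟨b, rfl⟩ := residue_surjective' q z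
        obtain ⟨c, hc, s, hs, h⟩ := mem_loc.mp b.2
        have hsP : algebraMap A D s ∉ P := fun h' => hs (by rw [← pr_comap hp q]; exact h')
        refine ⟨(Ideal.Quotient.mk P ⟨c, hc⟩, ⟨Ideal.Quotient.mk P (algebraMap A D s),
          mem_nonZeroDivisors_of_ne_zero fun h' => hsP (Ideal.Quotient.eq_zero_iff_mem.mp h')⟩), ?_⟩
        change algebraMap (loc p D) L b * g (algebraMap A D s) = g ⟨c, hc⟩
        have hb : b * algebraMap A (loc p D) s = algebraMap D (loc p D) ⟨c, hc⟩ := Subtype.ext h
        rw [hgA, IsScalarTower.algebraMap_apply A (loc p D) L, ← map_mul, hb]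
        rfl
      exists_of_eq := fun {a b} h => ⟨1, by rw [hinjL h]⟩ }
  haveI := finite_res (A := Ap) q
  have hr : Ideal.Quotient.mk P x ≠ 0 := fun h => hx (Ideal.Quotient.eq_zero_iff_mem.mp h)
  refine Eq.trans ?_ ((Groth.L22.OrdDet.length_eq_ordFrac_norm (A := A ⧸ p.asIdeal) (B := D ⧸ P)
    (K := p.asIdeal.ResidueField) (L := L) hinj (Ideal.Quotient.mk P x) hr).2.symm.trans ?_)
  · rfl
  · rw [lam]
    congr 2
    rw [← Module.length_eq_of_surjective (R := A ⧸ p.asIdeal) (S := A) Ideal.Quotient.mk_surjective]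
    have hm : (Ideal.span {x}).map (Ideal.Quotient.mkₐ A P) = Ideal.span {Ideal.Quotient.mk P x} := by
      rw [Ideal.map_span, Set.image_singleton]; rfl
    rw [← hm]
    exact (DoubleQuot.quotQuotEquivQuotSupₐ A P (Ideal.span {x})).toLinearEquiv.length_eq

theorem ordFrac_pow {f : ResidueField (Localization.AtPrime p.asIdeal)} (hf : f ≠ 0) (n : ℕ) :
    CycAlg.ordFrac (A ⧸ p.asIdeal) p.asIdeal.ResidueField (f ^ n) =
      n * CycAlg.ordFrac (A ⧸ p.asIdeal) p.asIdeal.ResidueField f := by
  haveI := dim_quot hA hp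
  induction n with
  | zero => rw [pow_zero]; simpa using ordFrac_one (R := A ⧸ p.asIdeal) (K := p.asIdeal.ResidueField)
  | succ n ih =>
    rw [pow_succ, ordFrac_mul (pow_ne_zero n hf) hf, ih]; push_cast; ring

theorem phi_formula [Module.Finite A D] {r u s : A} (hr : r ∈ nonZeroDivisors A)
    (hu : u ∈ nonZeroDivisors A) (hs : s ∈ nonZeroDivisors A) (x y : D)
    (hxu : algebraMap A D r * x = algebraMap A D u) (hys : algebraMap A D r * y = algebraMap A D s)
    (S : Finset (FractionRing A)) (hxS : (x : FractionRing A) ∈ S) (hyS : (y : FractionRing A) ∈ S)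
    (hrS : algebraMap A (FractionRing A) r ∈ S) (hfine : Fine p S D)
    (hco : ∀ q : MaximalSpectrum (loc p D), x ∈ pr q → y ∈ pr q → False) :
    phi p u s + phi p r r = phi p u r + phi p r s +
      ∑ᶠ q : MaximalSpectrum (loc p D),
        ((ordAtPt q y : ℤ) * lam (pr q) x - (ordAtPt q x : ℤ) * lam (pr q) y) := by
  haveI := dim_quot hA hp
  haveI := finite_loc p D
  have hd := dim_loc hp
  let Ap := Localization.AtPrime p.asIdeal
  haveI := finite_spectrum (A := Ap) (B := loc p D)
  haveI := Fintype.ofFinite (MaximalSpectrum (loc p D))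
  choose π hπ hgen using hfine
  choose v₁ e₁ h₁ using fun q => hgen q x hxS
  choose v₂ e₂ h₂ using fun q => hgen q y hyS
  choose v₃ e₃ h₃ using fun q => hgen q (algebraMap A D r) hrS
  let a : Fin 3 → Ap := ![algebraMap A Ap u, algebraMap A Ap s, algebraMap A Ap r]
  have hr' : ∀ q : MaximalSpectrum (loc p D),
      algebraMap A (Localization.AtPrime q.asIdeal) r =
        algebraMap (loc p D) (Localization.AtPrime q.asIdeal) (algebraMap D (loc p D) (algebraMap A D r)) := fun q => by
    rw [← IsScalarTower.algebraMap_apply A D (loc p D), ← IsScalarTower.algebraMap_apply A (loc p D)]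
  have hmul : ∀ (q : MaximalSpectrum (loc p D)) (z : D) (w : A),
      algebraMap A D r * z = algebraMap A D w → algebraMap A (Localization.AtPrime q.asIdeal) w =
        algebraMap (loc p D) (Localization.AtPrime q.asIdeal) (algebraMap D (loc p D) (algebraMap A D r)) *
        algebraMap (loc p D) (Localization.AtPrime q.asIdeal) (algebraMap D (loc p D) z) := fun q z w h => by
    rw [← map_mul, ← map_mul, h, ← IsScalarTower.algebraMap_apply A D (loc p D),
      ← IsScalarTower.algebraMap_apply A (loc p D)]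
  let F : Fam Ap a :=
    { B := loc p D
      isFinExt := finExt_loc hp
      π := π
      π_mem := hπ
      u := fun i q => ![v₁ q * v₃ q, v₂ q * v₃ q, v₃ q] i
      e := fun i q => ![e₁ q + e₃ q, e₂ q + e₃ q, e₃ q] i
      fac := fun i q => by
        fin_cases i
        · change algebraMap Ap (Localization.AtPrime q.asIdeal) (algebraMap A Ap u) =
            ((v₁ q * v₃ q : (Localization.AtPrime q.asIdeal)ˣ) : Localization.AtPrime q.asIdeal) * π q ^ (e₁ q + e₃ q)
          rw [← IsScalarTower.algebraMap_apply, hmul q x u hxu, h₁, h₃, Units.val_mul, pow_add]; ring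
        · change algebraMap Ap (Localization.AtPrime q.asIdeal) (algebraMap A Ap s) =
            ((v₂ q * v₃ q : (Localization.AtPrime q.asIdeal)ˣ) : Localization.AtPrime q.asIdeal) * π q ^ (e₂ q + e₃ q)
          rw [← IsScalarTower.algebraMap_apply, hmul q y s hys, h₂, h₃, Units.val_mul, pow_add]; ring
        · change algebraMap Ap (Localization.AtPrime q.asIdeal) (algebraMap A Ap r) =
            (v₃ q : Localization.AtPrime q.asIdeal) * π q ^ e₃ q
          rw [← IsScalarTower.algebraMap_apply, hr', h₃] }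
  have ha : ∀ i, a i ∈ nonZeroDivisors Ap := by
    intro i; fin_cases i
    · exact map_nzd_loc p hu
    · exact map_nzd_loc p hs
    · exact map_nzd_loc p hr
  have hloc : ∀ q : MaximalSpectrum (loc p D),
      IsLocalHom (algebraMap Ap (Localization.AtPrime q.asIdeal)) := fun q => isLocalHom_loc q
  let m : MaximalSpectrum (loc p D) → ResidueField Ap := fun q =>
    @lf Ap _ _ (Localization.AtPrime q.asIdeal) _ _ _ (hloc q) (π q) (v₁ q) (v₂ q) (e₁ q) (e₂ q)
  have key : tameSymbol Ap (a 0) (a 1) * tameSymbol Ap (a 2) (a 2) =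
      (∏ᶠ q : MaximalSpectrum (loc p D), m q) *
        (tameSymbol Ap (a 0) (a 2) * tameSymbol Ap (a 2) (a 1)) := by
    rw [tameSymbol_fam hd F ha 0 1, tameSymbol_fam hd F ha 2 2, tameSymbol_fam hd F ha 0 2,
      tameSymbol_fam hd F ha 2 1]
    change (∏ᶠ q : MaximalSpectrum (loc p D), _) * (∏ᶠ q : MaximalSpectrum (loc p D), _) =
      _ * ((∏ᶠ q : MaximalSpectrum (loc p D), _) * ∏ᶠ q : MaximalSpectrum (loc p D), _)
    simp only [finprod_eq_prod_of_fintype, ← Finset.prod_mul_distrib]
    refine Finset.prod_congr rfl fun q _ => ?_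
    haveI := hloc q
    change lf Ap (π q) (v₁ q * v₃ q) (v₂ q * v₃ q) (e₁ q + e₃ q) (e₂ q + e₃ q) * lf Ap (π q) (v₃ q) (v₃ q) (e₃ q) (e₃ q) =
      lf Ap (π q) (v₁ q) (v₂ q) (e₁ q) (e₂ q) *
        (lf Ap (π q) (v₁ q * v₃ q) (v₃ q) (e₁ q + e₃ q) (e₃ q) * lf Ap (π q) (v₃ q) (v₂ q * v₃ q) (e₃ q) (e₂ q + e₃ q))
    simp only [lf_mul_left, lf_mul_right]
    ring
  have hm : ∀ q, m q ≠ 0 := fun q => by
    haveI := hloc q
    haveI := finite_res (A := Ap) q
    exact lf_ne_zero _ _ _ _ _
  have hne : ∀ i j, tameSymbol Ap (a i) (a j) ≠ 0 := fun i j =>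
    Groth.Agent.S1848.symbol_ne_zero hd _ _ (ha i) (ha j)
  have hprod : ∀ t : Finset (MaximalSpectrum (loc p D)),
      CycAlg.ordFrac (A ⧸ p.asIdeal) p.asIdeal.ResidueField (∏ q ∈ t, m q) =
        ∑ q ∈ t, CycAlg.ordFrac (A ⧸ p.asIdeal) p.asIdeal.ResidueField (m q) := by
    classical
    intro t
    induction t using Finset.induction_on with
    | empty => exact ordFrac_one
    | insert q t hq ih =>
      rw [Finset.prod_insert hq, Finset.sum_insert hq,
        ordFrac_mul (hm q) (Finset.prod_ne_zero_iff.mpr fun i _ => hm i), ih]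
  have key' := congrArg (CycAlg.ordFrac (A ⧸ p.asIdeal) p.asIdeal.ResidueField) key
  rw [finprod_eq_prod_of_fintype, ordFrac_mul (hne 0 1) (hne 2 2),
    ordFrac_mul (Finset.prod_ne_zero_iff.mpr fun i _ => hm i) (mul_ne_zero (hne 0 2) (hne 2 1)),
    ordFrac_mul (hne 0 2) (hne 2 1), hprod] at key'
  refine key'.trans ?_
  rw [finsum_eq_sum_of_fintype, add_comm]
  congr 1
  refine Finset.sum_congr rfl fun q _ => ?_
  haveI := hloc q
  haveI := finite_res (A := Ap) q
  haveI : IsNoetherianRing (loc p D) := IsNoetherianRing.of_finite Ap (loc p D)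
  haveI := krullDimLE_loc (Groth.L15.CommonFactor.dim_le_one Ap hd (finExt_loc (C := D) hp).1) q
  change CycAlg.ordFrac (A ⧸ p.asIdeal) p.asIdeal.ResidueField (lf Ap (π q) (v₁ q) (v₂ q) (e₁ q) (e₂ q)) = _
  have hordz : ∀ (z : D) (v : (Localization.AtPrime q.asIdeal)ˣ) (e : ℕ),
      algebraMap (loc p D) (Localization.AtPrime q.asIdeal) (algebraMap D (loc p D) z) =
        (v : Localization.AtPrime q.asIdeal) * π q ^ e →
      ordAtPt q z = e * (Ring.ord (Localization.AtPrime q.asIdeal) (π q)).toNat := by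
    intro z v e h
    rw [ordAtPt, h, Ring.ord_mul_of_isUnit_left v.isUnit, Ring.ord_pow (hπ q), nsmul_eq_mul,
      ENat.toNat_mul]
    simp
  rw [hordz x _ _ (h₁ q), hordz y _ _ (h₂ q)]
  by_cases hu' : IsUnit (π q)
  · rw [lf_of_isUnit hu', ord_unit hu']
    simpa using ordFrac_one (R := A ⧸ p.asIdeal) (K := p.asIdeal.ResidueField)
  have hpos : ∀ (z : D) (v : (Localization.AtPrime q.asIdeal)ˣ) (e : ℕ), e ≠ 0 →
      algebraMap (loc p D) (Localization.AtPrime q.asIdeal) (algebraMap D (loc p D) z) =
        (v : Localization.AtPrime q.asIdeal) * π q ^ e → z ∈ pr q := by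
    intro z v e he h
    rw [mem_pr_iff, h, IsUnit.mul_iff, isUnit_pow_iff he]
    exact fun h' => hu' h'.2
  by_cases he : e₁ q = 0
  · have hxP : x ∉ pr q := by
      rw [mem_pr_iff, not_not, h₁, he]
      simp
    have hres : residue (Localization.AtPrime q.asIdeal) (v₁ q : Localization.AtPrime q.asIdeal) =
        residue (Localization.AtPrime q.asIdeal)
          (algebraMap (loc p D) (Localization.AtPrime q.asIdeal) (algebraMap D (loc p D) x)) := by
      rw [h₁, he, pow_zero, mul_one]
    rw [lf, sx, he]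
    simp only [zero_mul, pow_zero, one_mul, inv_one, mul_one, Nat.cast_zero, sub_zero, map_pow]
    rw [← pow_mul, ordFrac_pow hA hp (Algebra.norm_ne_zero_iff.mpr (residue_unit_ne_zero _)), hres,
      ordFrac_norm hA hp q x hxP]
  · have hf : e₂ q = 0 := by_contra fun hf => hco q (hpos x _ _ he (h₁ q)) (hpos y _ _ hf (h₂ q))
    have hyP : y ∉ pr q := fun h => hco q (hpos x _ _ he (h₁ q)) h
    have hres : residue (Localization.AtPrime q.asIdeal) (v₂ q : Localization.AtPrime q.asIdeal) =
        residue (Localization.AtPrime q.asIdeal)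
          (algebraMap (loc p D) (Localization.AtPrime q.asIdeal) (algebraMap D (loc p D) y)) := by
      rw [h₂, hf, pow_zero, mul_one]
    rw [lf, sx, hf]
    simp only [mul_zero, zero_mul, pow_zero, one_mul, mul_one, Nat.cast_zero, zero_sub]
    have hinvN : ∀ z : ResidueField (Localization.AtPrime q.asIdeal), z ≠ 0 →
        Algebra.norm (ResidueField Ap) z⁻¹ = (Algebra.norm (ResidueField Ap) z)⁻¹ := fun z hz =>
      eq_inv_of_mul_eq_one_left (by rw [← map_mul, inv_mul_cancel₀ hz, map_one])
    rw [hinvN _ (pow_ne_zero _ (residue_unit_ne_zero _)), map_pow, inv_pow, ← pow_mul]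
    have hn : Algebra.norm (ResidueField Ap) (residue (Localization.AtPrime q.asIdeal) (v₂ q : Localization.AtPrime q.asIdeal)) ≠ 0 :=
      Algebra.norm_ne_zero_iff.mpr (residue_unit_ne_zero _)
    have hpw := pow_ne_zero (e₁ q * (Ring.ord (Localization.AtPrime q.asIdeal) (π q)).toNat) hn
    have hinv := ordFrac_mul (R := A ⧸ p.asIdeal) (K := p.asIdeal.ResidueField) hpw (inv_ne_zero hpw)
    rw [mul_inv_cancel₀ hpw, ordFrac_one, ordFrac_pow hA hp hn, hres, ordFrac_norm hA hp q y hyP] at hinv
    rw [hres] 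
    push_cast at hinv ⊢
    linarith

end Groth.L15.Key
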