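import Groth.Agent.L15.Key.Phi

/-!
Extension of the bilinear sum to the units of the total ring of fractions.
-/

set_option autoImplicit false
universe u

noncomputable section

namespace Groth.L15.Key

variable {A : Type u} [CommRing A]

local notation "K" => FractionRing A

theorem nzd_of_isUnit {u : A} (h : IsUnit (algebraMap A K u)) : u ∈ nonZeroDivisors A := by
  rw [mem_nonZeroDivisors_iff_right]
  intro w hw
  refine IsFractionRing.injective A K ?_
  rw [map_zero]
  exact h.mul_left_eq_zero.mp (by rw [← map_mul, hw, map_zero])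

theorem isUnit_map {u : A} (h : u ∈ nonZeroDivisors A) : IsUnit (algebraMap A K u) :=
  IsLocalization.map_units K (⟨u, h⟩ : nonZeroDivisors A)

theorem exists_rep {x : K} (hx : IsUnit x) :
    ∃ u v : A, u ∈ nonZeroDivisors A ∧ v ∈ nonZeroDivisors A ∧ x * algebraMap A K v = algebraMap A K u := by
  obtain ⟨⟨u, v⟩, h⟩ := IsLocalization.surj (nonZeroDivisors A) x
  exact ⟨u, v, nzd_of_isUnit (by rw [← h]; exact hx.mul (isUnit_map v.2)), v.2, h⟩

open Classical in
/-- the pairing on units of the total ring of fractions -/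
def Psi (x y : K) : ℤ :=
  if h : IsUnit x ∧ IsUnit y then
    let u := (exists_rep h.1).choose
    let v := (exists_rep h.1).choose_spec.choose
    let s := (exists_rep h.2).choose
    let t := (exists_rep h.2).choose_spec.choose
    Phi u s - Phi u t - Phi v s + Phi v t
  else 0

variable [IsNoetherianRing A] [IsLocalRing A] (hA : ringKrullDim A = 2)
include hA

theorem Psi_eq {x y : K} {u v s t : A} (hu : u ∈ nonZeroDivisors A) (hv : v ∈ nonZeroDivisors A)
    (hs : s ∈ nonZeroDivisors A) (ht : t ∈ nonZeroDivisors A)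
    (hx : x * algebraMap A K v = algebraMap A K u) (hy : y * algebraMap A K t = algebraMap A K s) :
    Psi x y = Phi u s - Phi u t - Phi v s + Phi v t := by
  have hxu : IsUnit x := isUnit_of_mul_isUnit_left (hx ▸ isUnit_map hu)
  have hyu : IsUnit y := isUnit_of_mul_isUnit_left (hy ▸ isUnit_map hs)
  rw [Psi, dif_pos ⟨hxu, hyu⟩]
  obtain ⟨hu', hv', hx'⟩ := (exists_rep hxu).choose_spec.choose_spec
  obtain ⟨hs', ht', hy'⟩ := (exists_rep hyu).choose_spec.choose_spec
  dsimp only
  generalize (exists_rep hxu).choose = u', (exists_rep hxu).choose_spec.choose = v',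
    (exists_rep hyu).choose = s', (exists_rep hyu).choose_spec.choose = t' at *
  have hx2 : u' * v = u * v' := IsFractionRing.injective A K (by
    rw [map_mul, map_mul, ← hx, ← hx']; ring)
  have hy2 : s' * t = s * t' := IsFractionRing.injective A K (by
    rw [map_mul, map_mul, ← hy, ← hy']; ring)
  have e1 : ∀ w ∈ nonZeroDivisors A, Phi u' w + Phi v w = Phi u w + Phi v' w := fun w hw => by
    rw [← (Phi_mul hA hu' hv hw).1, ← (Phi_mul hA hu hv' hw).1, hx2]
  have e2 : ∀ w ∈ nonZeroDivisors A, Phi w s' + Phi w t = Phi w s + Phi w t' := fun w hw => by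
    rw [← (Phi_mul hA hs' ht hw).2, ← (Phi_mul hA hs ht' hw).2, hy2]
  have a1 := e1 s' hs'
  have a2 := e1 t' ht'
  have b1 := e2 u hu
  have b2 := e2 v hv
  omega

theorem Psi_map {a b : A} (ha : a ∈ nonZeroDivisors A) (hb : b ∈ nonZeroDivisors A) :
    Psi (algebraMap A K a) (algebraMap A K b) = Phi a b := by
  rw [Psi_eq hA ha (one_mem _) hb (one_mem _) (by simp) (by simp), (Phi_one hA ha).2,
    (Phi_one hA hb).1, (Phi_one hA (one_mem _)).1]
  omega

theorem Psi_mul_left {x x' y : K} (hx : IsUnit x) (hx' : IsUnit x') (hy : IsUnit y) :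
    Psi (x * x') y = Psi x y + Psi x' y := by
  obtain ⟨u, v, hu, hv, h⟩ := exists_rep hx
  obtain ⟨u', v', hu', hv', h'⟩ := exists_rep hx'
  obtain ⟨s, t, hs, ht, k⟩ := exists_rep hy
  rw [Psi_eq hA hu hv hs ht h k, Psi_eq hA hu' hv' hs ht h' k,
    Psi_eq hA (mul_mem hu hu') (mul_mem hv hv') hs ht (by rw [map_mul, map_mul, ← h, ← h']; ring) k,
    (Phi_mul hA hu hu' hs).1, (Phi_mul hA hu hu' ht).1, (Phi_mul hA hv hv' hs).1,
    (Phi_mul hA hv hv' ht).1]
  ring

theorem Psi_comm {x y : K} (hx : IsUnit x) (hy : IsUnit y) : Psi x y + Psi y x = 0 := by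
  obtain ⟨u, v, hu, hv, h⟩ := exists_rep hx
  obtain ⟨s, t, hs, ht, k⟩ := exists_rep hy
  rw [Psi_eq hA hu hv hs ht h k, Psi_eq hA hs ht hu hv k h]
  have := Phi_comm hA hu hs
  have := Phi_comm hA hu ht
  have := Phi_comm hA hv hs
  have := Phi_comm hA hv ht
  omega

theorem Psi_mul_right {x y y' : K} (hx : IsUnit x) (hy : IsUnit y) (hy' : IsUnit y') :
    Psi x (y * y') = Psi x y + Psi x y' := by
  have := Psi_comm hA hx (hy.mul hy')
  have := Psi_comm hA hx hy
  have := Psi_comm hA hx hy'
  have := Psi_mul_left hA hy hy' hx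
  omega

theorem Psi_one_left {y : K} (hy : IsUnit y) : Psi 1 y = 0 := by
  have h := Psi_mul_left hA isUnit_one isUnit_one hy
  rw [mul_one] at h
  omega

theorem Psi_pow_left {x y : K} (hx : IsUnit x) (hy : IsUnit y) (n : ℕ) :
    Psi (x ^ n) y = n * Psi x y := by
  induction n with
  | zero => simpa using Psi_one_left hA hy
  | succ n ih => rw [pow_succ, Psi_mul_left hA (hx.pow n) hx hy, ih]; push_cast; ring

theorem Psi_prod_left {ι : Type*} (s : Finset ι) (x : ι → K) (hx : ∀ i ∈ s, IsUnit (x i)) {y : K}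
    (hy : IsUnit y) : Psi (∏ i ∈ s, x i) y = ∑ i ∈ s, Psi (x i) y := by
  classical
  induction s using Finset.induction_on with
  | empty => simpa using Psi_one_left hA hy
  | insert i s hi ih =>
    have hs : IsUnit (∏ j ∈ s, x j) := Finset.prod_induction _ IsUnit (fun _ _ => IsUnit.mul)
      isUnit_one fun j hj => hx j (Finset.mem_insert_of_mem hj)
    rw [Finset.prod_insert hi, Finset.sum_insert hi,
      Psi_mul_left hA (hx i (Finset.mem_insert_self i s)) hs hy,
      ih fun j hj => hx j (Finset.mem_insert_of_mem hj)]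

end Groth.L15.Key
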