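import Groth.Agent.L15.Key.Coprime
import Mathlib.RingTheory.Ideal.AssociatedPrime.Finiteness

/-!
Moving argument: the pairing of two elements of the ring vanishes.
-/

set_option autoImplicit false
set_option maxSynthPendingDepth 5
universe u

noncomputable section

namespace Groth.L15.Key

open IsLocalRing Groth.L15.Tame CycAlg

variable {A : Type u} [CommRing A] [IsNoetherianRing A] [IsLocalRing A]
  {C : Subalgebra A (FractionRing A)} [Module.Finite A C]

omit [IsLocalRing A] in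
theorem isUnit_of_nzd {z : C} (hz : z ∈ nonZeroDivisors C) : IsUnit (z : FractionRing A) := by
  obtain ⟨r, hr, hrC⟩ := exists_bound C
  obtain ⟨w, hw⟩ := hrC z z.2
  have hw' : w ∈ nonZeroDivisors A := by
    rw [mem_nonZeroDivisors_iff_right]
    intro t ht
    have h1 : algebraMap A C (t * r) * z = 0 := Subtype.ext (by
      change algebraMap A (FractionRing A) (t * r) * (z : FractionRing A) = 0
      rw [map_mul, mul_assoc, ← hw, ← map_mul, ht, map_zero])
    have h2 := congrArg Subtype.val (mem_nonZeroDivisors_iff_right.mp hz _ h1)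
    change algebraMap A (FractionRing A) (t * r) = 0 at h2
    exact mem_nonZeroDivisors_iff_right.mp hr _ (IsFractionRing.injective A (FractionRing A) (by rw [h2, map_zero]))
  exact isUnit_of_mul_isUnit_right (x := algebraMap A (FractionRing A) r) (hw ▸ isUnit_map hw')

/-- primes over height one primes which contain a unit of the total ring of fractions -/
def Good (C : Subalgebra A (FractionRing A)) : Set (PrimeSpectrum C) :=
  {P | P ∈ overHt1 C ∧ ∃ x : C, IsUnit (x : FractionRing A) ∧ x ∈ P.asIdeal}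

/-- points over `p` -/
abbrev Pt (C : Subalgebra A (FractionRing A)) : Type u :=
  Σ p : PrimeSpectrum A, MaximalSpectrum (loc p C)

/-- the prime of a point -/
def pt (v : Pt C) : PrimeSpectrum C := ⟨pr v.2, inferInstance⟩

/-- the map to the local ring of a point -/
def toL (v : Pt C) : C →+* Localization.AtPrime v.2.asIdeal :=
  (algebraMap (loc v.1 C) (Localization.AtPrime v.2.asIdeal)).comp (algebraMap C (loc v.1 C))

omit [IsNoetherianRing A] [IsLocalRing A] [Module.Finite A C] in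
theorem isUnit_toL (v : Pt C) {x : C} : IsUnit (toL v x) ↔ x ∉ (pt v).asIdeal := by
  rw [pt, mem_pr_iff, not_not]; rfl

omit [IsNoetherianRing A] [IsLocalRing A] [Module.Finite A C] in
theorem toL_eq_iff (v : Pt C) {x y : C} :
    toL v x = toL v y ↔ ∃ t, t ∉ (pt v).asIdeal ∧ t * x = t * y := by
  haveI : IsLocalization.AtPrime (Localization.AtPrime v.2.asIdeal) (pr v.2) :=
    IsLocalization.isLocalization_isLocalization_atPrime_isLocalization
      (Algebra.algebraMapSubmonoid C v.1.asIdeal.primeCompl) (S := loc v.1 C) _ v.2.asIdeal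
  have h : ∀ z, toL v z = algebraMap C (Localization.AtPrime v.2.asIdeal) z := fun z =>
    (IsScalarTower.algebraMap_apply C (loc v.1 C) _ z).symm
  rw [h, h, IsLocalization.eq_iff_exists (pr v.2).primeCompl]
  exact ⟨fun ⟨t, ht⟩ => ⟨t, t.2, ht⟩, fun ⟨t, ht, h'⟩ => ⟨⟨t, ht⟩, h'⟩⟩

omit [IsNoetherianRing A] [IsLocalRing A] [Module.Finite A C] in
theorem toL_surj (v : Pt C) (z : Localization.AtPrime v.2.asIdeal) :
    ∃ c s : C, s ∉ (pt v).asIdeal ∧ z * toL v s = toL v c := by
  haveI : IsLocalization.AtPrime (Localization.AtPrime v.2.asIdeal) (pr v.2) :=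
    IsLocalization.isLocalization_isLocalization_atPrime_isLocalization
      (Algebra.algebraMapSubmonoid C v.1.asIdeal.primeCompl) (S := loc v.1 C) _ v.2.asIdeal
  obtain ⟨⟨c, s⟩, h⟩ := IsLocalization.surj (pr v.2).primeCompl z
  refine ⟨c, s, s.2, ?_⟩
  rw [IsScalarTower.algebraMap_apply C (loc v.1 C), IsScalarTower.algebraMap_apply C (loc v.1 C)] at h
  exact h

omit [IsNoetherianRing A] [IsLocalRing A] [Module.Finite A C] in
/-- clearing denominators -/
theorem exists_cross (v : Pt C) {x y : C} {u : (Localization.AtPrime v.2.asIdeal)ˣ}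
    (h : toL v x = (u : Localization.AtPrime v.2.asIdeal) * toL v y) :
    ∃ s c : C, s ∉ (pt v).asIdeal ∧ c ∉ (pt v).asIdeal ∧ s * x = c * y := by
  obtain ⟨c, s, hs, hsc⟩ := toL_surj v (u : Localization.AtPrime v.2.asIdeal)
  have h1 : toL v (s * x) = toL v (c * y) := by rw [map_mul, map_mul, h, ← hsc]; ring
  obtain ⟨t, ht, h2⟩ := (toL_eq_iff v).mp h1
  refine ⟨t * s, t * c, fun hm => ((pt v).2.mem_or_mem hm).elim ht hs, fun hm => ?_, by
    rw [mul_assoc, mul_assoc, h2]⟩
  refine ((pt v).2.mem_or_mem hm).elim ht fun h => (isUnit_toL v (x := c)).mp ?_ h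
  rw [← hsc]
  exact u.isUnit.mul ((isUnit_toL v).mpr hs)

theorem finite_over {x : C} (hx : IsUnit (x : FractionRing A)) :
    {P ∈ overHt1 C | x ∈ P.asIdeal}.Finite := by
  obtain ⟨u, w, hu, -, h⟩ := mul_eq_of_isUnit x hx
  haveI : ∀ p : PrimeSpectrum A, Finite (MaximalSpectrum (loc p C)) := fun p =>
    haveI := finite_loc p C
    Groth.L15.Tame.finite_spectrum (A := Localization.AtPrime p.asIdeal)
  refine ((finite_ht1 hu).biUnion (t := fun p => Set.range fun q : MaximalSpectrum (loc p C) => pt ⟨p, q⟩)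
    fun p _ => Set.finite_range _).subset ?_
  rintro P ⟨hP, hxP⟩
  let p := PrimeSpectrum.comap (algebraMap A C) P
  have hne : P.asIdeal.map (algebraMap C (loc p C)) ≠ ⊤ := by
    rw [IsLocalization.map_algebraMap_ne_top_iff_disjoint (Algebra.algebraMapSubmonoid C p.asIdeal.primeCompl) (loc p C),
      Set.disjoint_left]
    rintro _ ⟨a, ha, rfl⟩ h
    exact ha h
  obtain ⟨q, hq, hle⟩ := Ideal.exists_le_maximal _ hne
  refine Set.mem_biUnion (x := p) ⟨hP, ?_⟩ ⟨⟨q, hq⟩, ?_⟩
  · change algebraMap A C u ∈ P.asIdeal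
    rw [← h]; exact P.asIdeal.mul_mem_left _ hxP
  · refine (eq_of_le_overHt1 hx hxP (P' := pt ⟨p, ⟨q, hq⟩⟩) (Ideal.map_le_iff_le_comap.mp hle) ?_).symm
    change ((pr (⟨q, hq⟩ : MaximalSpectrum (loc p C))).comap (algebraMap A C)).height = 1
    rw [pr_comap hP]
    exact hP

theorem cross_eq {R : Type u} [CommRing R] (s c s' c' x y : R) (hy : y ∈ nonZeroDivisors R)
    (h' : s' * x = c' * y) (hc : c * y = x * s) : s * c' = s' * c :=
  (mul_cancel_right_mem_nonZeroDivisors hy).mp (by rw [mul_assoc, ← h', mul_assoc s' c y, hc]; ring)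

theorem val_eq {R S : Type u} [CommRing R] [CommRing S] (g : R →+* S) (e y e' s : R) (w π : S)
    (hu : IsUnit (g e * g s + w))
    (hys : π * g s = g y) (hw' : π * w = g e') : g (e * y + e') = (hu.unit : S) * π := by
  rw [map_add, map_mul, ← hys, ← hw', IsUnit.unit_spec]; ring

theorem zero_of_pow_mul {R S : Type u} [CommRing R] [CommRing S] (g : R →+* S) (z t : R) (n : ℕ)
    (hz : g z ∈ nonZeroDivisors S) (h : z ^ n * t = 0) : g t = g 0 := by
  have h2 := congrArg g h
  rw [map_zero, map_mul, map_pow] at h2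
  rw [map_zero]
  exact mem_nonZeroDivisors_iff_left.mp (pow_mem hz n) _ h2

theorem notMem_assoc (v : Pt C) (z : C) (hzn : toL v z ∈ nonZeroDivisors (Localization.AtPrime v.2.asIdeal))
    (Q : Ideal C) (hQ : Q ∈ associatedPrimes C C) (hle : Q ≤ (pt v).asIdeal) (hzQ : z ∈ Q) : False := by
  obtain ⟨hQp, t, ht⟩ := hQ
  have hzQ' : z ∈ ((⊥ : Submodule C C).colon {t}).radical := ht ▸ hzQ
  obtain ⟨n, hn⟩ := hzQ'
  have h0 : z ^ n * t = 0 := (Submodule.mem_bot C).mp (Submodule.mem_colon_singleton.mp hn)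
  have h1 := zero_of_pow_mul (toL v) z t n hzn h0
  obtain ⟨c, hc, hct⟩ := (toL_eq_iff v).mp h1
  refine hc (hle ?_)
  rw [ht]
  refine Ideal.le_radical (Submodule.mem_colon_singleton.mpr ((Submodule.mem_bot C).mpr ?_))
  exact hct.trans (mul_zero c)

variable (hA : ringKrullDim A = 2)
include hA

theorem move (G : Finset (PrimeSpectrum C)) (x y b : C) (hx : IsUnit (x : FractionRing A))
    (hy : IsUnit (y : FractionRing A)) (hb : IsUnit (b : FractionRing A))
    (hbG : ∀ P ∈ overHt1 C, b ∈ P.asIdeal → P ∈ G)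
    (hxy : ∀ P ∈ G, ∃ s c : C, s ∉ P.asIdeal ∧ c ∉ P.asIdeal ∧ s * x = c * y) :
    Psi (x : FractionRing A) (b : FractionRing A) = Psi (y : FractionRing A) (b : FractionRing A) := by
  classical
  haveI : IsNoetherianRing C := IsNoetherianRing.of_finite A C
  let J : Ideal C := Submodule.comap (LinearMap.mulLeft C x) (Ideal.span {y})
  have hJy : y ∈ J := Ideal.mem_span_singleton'.mpr ⟨x, rfl⟩
  have hass := associatedPrimes.finite C C
  let L : Finset (Ideal C) := G.image PrimeSpectrum.asIdeal ∪ hass.toFinset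
  have hLprime : ∀ Q ∈ L, Q.IsPrime := by
    intro Q hQ
    rcases Finset.mem_union.mp hQ with h | h
    · obtain ⟨P, -, rfl⟩ := Finset.mem_image.mp h; exact P.2
    · exact ((hass.mem_toFinset).mp h).isPrime
  obtain ⟨s, hsJ, hs⟩ : ∃ s ∈ J, ∀ Q ∈ L, s ∉ Q := by
    by_contra hcon
    push_neg at hcon
    have hsub : (J : Set C) ⊆ ⋃ Q ∈ (↑L : Set (Ideal C)), ((id Q : Ideal C) : Set C) := fun z hz => by
      obtain ⟨Q, h1, h2⟩ := hcon z hz
      exact Set.mem_biUnion h1 h2
    obtain ⟨Q, hQ, hle⟩ := (Ideal.subset_union_prime (f := id) ⊥ ⊥ fun i hi _ _ => hLprime i hi).mp hsub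
    rcases Finset.mem_union.mp hQ with h | h
    · obtain ⟨P, hP, rfl⟩ := Finset.mem_image.mp h
      obtain ⟨s, c, hs, -, h'⟩ := hxy P hP
      exact hs (hle (Ideal.mem_span_singleton'.mpr ⟨c, by rw [LinearMap.mulLeft_apply, mul_comm x s, h']⟩))
    · have hyQ : y ∈ Q := hle hJy
      have := biUnion_associatedPrimes_eq_compl_nonZeroDivisors C
      have hmem : y ∈ ((nonZeroDivisors C : Set C))ᶜ := by
        rw [← this]; exact Set.mem_biUnion ((hass.mem_toFinset).mp h) hyQ
      exact hmem (mem_nzd_sub hy)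
  obtain ⟨c, hc⟩ := Ideal.mem_span_singleton'.mp hsJ
  rw [LinearMap.mulLeft_apply] at hc
  have hsn : s ∈ nonZeroDivisors C := by
    by_contra h
    have h' : s ∈ ((nonZeroDivisors C : Set C))ᶜ := h
    rw [← biUnion_associatedPrimes_eq_compl_nonZeroDivisors] at h'
    obtain ⟨Q, hQ, hsQ⟩ := Set.mem_iUnion₂.mp h'
    exact hs Q (Finset.mem_union_right _ (hass.mem_toFinset.mpr hQ)) hsQ
  have hcn : c ∈ nonZeroDivisors C :=
    (mul_mem_nonZeroDivisors.mp (hc ▸ mul_mem (mem_nzd_sub hx) hsn)).1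
  have hcG : ∀ P ∈ G, c ∉ P.asIdeal := by
    intro P hP hcP
    obtain ⟨s', c', hs', hc', h'⟩ := hxy P hP
    have h2 : s * c' = s' * c := cross_eq (R := C) s c s' c' x y (mem_nzd_sub hy) h' hc
    rcases P.2.mem_or_mem (show s * c' ∈ P.asIdeal from h2 ▸ P.asIdeal.mul_mem_left _ hcP) with h | h
    · exact hs _ (Finset.mem_union_left _ (Finset.mem_image_of_mem _ hP)) h
    · exact hc' h
  have hsu := isUnit_of_nzd hsn
  have hcu := isUnit_of_nzd hcn
  have h0 : Psi (s : FractionRing A) (b : FractionRing A) = 0 := Psi_eq_zero hA C s b hsu hb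
    fun P hP h1 h2 => hs _ (Finset.mem_union_left _ (Finset.mem_image_of_mem _ (hbG P hP h2))) h1
  have h1 : Psi (c : FractionRing A) (b : FractionRing A) = 0 := Psi_eq_zero hA C c b hcu hb
    fun P hP h1 h2 => hcG P (hbG P hP h2) h1
  have h2 : (c : FractionRing A) * y = (x : FractionRing A) * s := congrArg Subtype.val hc
  have h3 := Psi_mul_left hA hcu hy hb
  rw [h2, Psi_mul_left hA hx hsu hb] at h3
  omega

/-- representatives of a parameter -/
theorem exists_z (v : Pt C) (hv : v.1 ∈ ht1 A) (π : Localization.AtPrime v.2.asIdeal)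
    (hπ : π ∈ nonZeroDivisors (Localization.AtPrime v.2.asIdeal)) (hπu : ¬ IsUnit π)
    (hgood : pt v ∈ Good C) (G : Finset (PrimeSpectrum C)) (hG : ∀ P ∈ G, P ∈ Good C) :
    ∃ z : C, IsUnit (z : FractionRing A) ∧ (∀ P ∈ G, P ≠ pt v → z ∉ P.asIdeal) ∧
      ∃ u : (Localization.AtPrime v.2.asIdeal)ˣ, toL v z = (u : Localization.AtPrime v.2.asIdeal) * π := by
  classical
  haveI : IsNoetherianRing C := IsNoetherianRing.of_finite A C
  haveI := finite_loc v.1 C
  haveI : IsNoetherianRing (loc v.1 C) := IsNoetherianRing.of_finite (Localization.AtPrime v.1.asIdeal) _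
  haveI := krullDimLE_loc (Groth.L15.CommonFactor.dim_le_one (Localization.AtPrime v.1.asIdeal)
    (dim_loc hv) (finExt_loc (C := C) hv).1) v.2
  let Lv := Localization.AtPrime v.2.asIdeal
  let J : Ideal C := (Ideal.span {π} * maximalIdeal Lv).comap (toL v)
  have hass := associatedPrimes.finite C C
  let L : Finset (Ideal C) := (G.erase (pt v)).image PrimeSpectrum.asIdeal ∪
    hass.toFinset.filter fun Q => ¬ Q ≤ (pt v).asIdeal
  have hLprime : ∀ Q ∈ L, Q.IsPrime := by
    intro Q hQ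
    rcases Finset.mem_union.mp hQ with h | h
    · obtain ⟨P, -, rfl⟩ := Finset.mem_image.mp h; exact P.2
    · exact ((hass.mem_toFinset).mp (Finset.mem_filter.mp h).1).isPrime
  have hLnot : ∀ Q ∈ L, ¬ Q ≤ (pt v).asIdeal ∧ ¬ (pt v).asIdeal ≤ Q := by
    intro Q hQ
    obtain ⟨hvht, x, hxu, hxv⟩ := hgood
    rcases Finset.mem_union.mp hQ with h | h
    · obtain ⟨P, hP, rfl⟩ := Finset.mem_image.mp h
      obtain ⟨hne, hP⟩ := Finset.mem_erase.mp hP
      obtain ⟨hPht, y, hyu, hyP⟩ := hG P hP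
      exact ⟨fun hle => hne (eq_of_le_overHt1 hyu hyP hle hvht),
        fun hle => hne (eq_of_le_overHt1 hxu hxv hle hPht).symm⟩
    · obtain ⟨h1, h2⟩ := Finset.mem_filter.mp h
      refine ⟨h2, fun hle => ?_⟩
      have hmem : x ∈ ((nonZeroDivisors C : Set C))ᶜ := by
        rw [← biUnion_associatedPrimes_eq_compl_nonZeroDivisors]
        exact Set.mem_biUnion ((hass.mem_toFinset).mp h1) (hle hxv)
      exact hmem (mem_nzd_sub hxu)
  have hrad : ∀ d ∈ (pt v).asIdeal, toL v d ∈ (Ideal.span {π} * maximalIdeal Lv).radical := by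
    intro d hd
    rw [Ideal.radical_eq_sInf, Ideal.mem_sInf]
    rintro I ⟨hle, hI⟩
    have hπI : π ∈ I := (hI.mem_or_mem (hle (Ideal.mul_mem_mul (Ideal.subset_span rfl) hπu))).elim id id
    rcases Ring.krullDimLE_one_iff.1 inferInstance I hI with hmin | hmax
    · exact absurd hπ (Set.disjoint_left.mp (Ideal.disjoint_nonZeroDivisors_of_mem_minimalPrimes hmin) hπI)
    · rw [eq_maximalIdeal hmax]
      exact fun hu => ((isUnit_toL v).mp hu) hd
  obtain ⟨e', he'J, he'⟩ : ∃ e' ∈ J, ∀ Q ∈ L, e' ∉ Q := by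
    by_contra hcon
    push_neg at hcon
    have hsub : (J : Set C) ⊆ ⋃ Q ∈ (↑L : Set (Ideal C)), ((id Q : Ideal C) : Set C) := fun z hz => by
      obtain ⟨Q, h1, h2⟩ := hcon z hz
      exact Set.mem_biUnion h1 h2
    obtain ⟨Q, hQ, hle⟩ := (Ideal.subset_union_prime (f := id) ⊥ ⊥ fun i hi _ _ => hLprime i hi).mp hsub
    refine (hLnot Q hQ).2 fun d hd => ?_
    obtain ⟨n, hn⟩ := hrad d hd
    exact (hLprime Q hQ).mem_of_pow_mem n (hle (by rw [Ideal.mem_comap, map_pow]; exact hn))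
  obtain ⟨e, he, hev⟩ : ∃ e, (∀ Q ∈ L, e ∈ Q) ∧ e ∉ (pt v).asIdeal := by
    choose g hg hg' using fun (Q : Ideal C) (h : Q ∈ L) => SetLike.not_le_iff_exists.mp (hLnot Q h).1
    refine ⟨∏ Q ∈ L.attach, g Q.1 Q.2, fun Q h => ?_, fun hmem => ?_⟩
    · exact Q.mem_of_dvd (Finset.dvd_prod_of_mem _ (Finset.mem_attach _ ⟨Q, h⟩)) (hg Q h)
    · obtain ⟨Q, -, h'⟩ := ((pt v).2.prod_mem_iff).mp hmem
      exact hg' _ _ h'
  obtain ⟨y, s, hs, hys⟩ := toL_surj v π
  obtain ⟨w, hw, hw'⟩ := Ideal.mem_span_singleton_mul.mp (show toL v e' ∈ Ideal.span {π} * maximalIdeal Lv from he'J)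
  have hu : IsUnit (toL v e * toL v s + w) := by
    by_contra hnu
    have h1 : toL v e * toL v s ∈ maximalIdeal Lv := by
      have := (maximalIdeal Lv).sub_mem (show _ ∈ maximalIdeal Lv from hnu) hw
      rwa [add_sub_cancel_right] at this
    exact h1 (((isUnit_toL v).mpr hev).mul ((isUnit_toL v).mpr hs))
  have hval : toL v (e * y + e') = (hu.unit : Lv) * π :=
    val_eq (toL v) e y e' s w π hu hys hw'
  have hnot : ∀ Q ∈ L, e * y + e' ∉ Q := fun Q hQ h =>
    he' Q hQ ((Q.add_mem_iff_right (Q.mul_mem_right _ (he Q hQ))).mp h)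
  refine ⟨e * y + e', isUnit_of_nzd ?_, fun P hP hne => hnot _ (Finset.mem_union_left _
    (Finset.mem_image_of_mem _ (Finset.mem_erase.mpr ⟨hne, hP⟩))), hu.unit, hval⟩
  by_contra h
  have h' : e * y + e' ∈ ((nonZeroDivisors C : Set C))ᶜ := h
  rw [← biUnion_associatedPrimes_eq_compl_nonZeroDivisors] at h'
  obtain ⟨Q, hQ, hzQ⟩ := Set.mem_iUnion₂.mp h'
  by_cases hle : Q ≤ (pt v).asIdeal
  · have hzn : toL v (e * y + e') ∈ nonZeroDivisors Lv := by
      rw [hval]; exact mul_mem hu.unit.isUnit.mem_nonZeroDivisors hπ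
    exact notMem_assoc v (e * y + e') hzn Q hQ hle hzQ
  · exact hnot Q (Finset.mem_union_right _ (Finset.mem_filter.mpr ⟨hass.mem_toFinset.mpr hQ, hle⟩)) hzQ

omit hA in
theorem pt_injective (F : Finset (PrimeSpectrum A)) (hF : ∀ p ∈ F, p ∈ ht1 A) {v w : Pt C}
    (hv : v.1 ∈ F) (hw : w.1 ∈ F) (h : pt v = pt w) : v = w := by
  obtain ⟨p, q⟩ := v
  obtain ⟨p', q'⟩ := w
  have h' : pr q = pr q' := congrArg PrimeSpectrum.asIdeal h
  obtain rfl : p = p' := by
    have e1 := pr_comap (hF p hv) q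
    have e2 := pr_comap (hF p' hw) q'
    exact PrimeSpectrum.ext (e1.symm.trans ((congrArg _ h').trans e2))
  obtain rfl : q = q' := pr_injective h'
  rfl

omit [IsNoetherianRing A] [IsLocalRing A] [Module.Finite A C] hA in
theorem prod_eq_unit_mul {R : Type u} [CommRing R] {ι : Type*} [Fintype ι] (g : ι → R) (n : ι → ℕ) (i : ι)
    (π : R) (u : Rˣ) (hu : g i = (u : R) * π) (hg : ∀ j, j ≠ i → IsUnit (g j)) :
    ∃ w : Rˣ, ∏ j, g j ^ n j = (w : R) * π ^ n i := by
  classical
  have hrest : IsUnit (∏ j ∈ Finset.univ.erase i, g j ^ n j) :=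
    Finset.prod_induction _ IsUnit (fun _ _ => IsUnit.mul) isUnit_one fun j hj =>
      (hg j (Finset.ne_of_mem_erase hj)).pow _
  refine ⟨u ^ n i * hrest.unit, ?_⟩
  rw [← Finset.mul_prod_erase _ _ (Finset.mem_univ i), hu, mul_pow, Units.val_mul,
    Units.val_pow_eq_pow_val, IsUnit.unit_spec]
  ring

omit [IsNoetherianRing A] [IsLocalRing A] [Module.Finite A C] hA in
theorem unit_mul_pow_eq {R : Type u} [CommRing R] (ux w : Rˣ) (a : R) :
    (ux : R) * a = ((ux * w⁻¹ : Rˣ) : R) * ((w : R) * a) := by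
  rw [← mul_assoc, ← Units.val_mul, inv_mul_cancel_right]

omit [IsNoetherianRing A] [IsLocalRing A] [Module.Finite A C] hA in
theorem cross_prod {ι : Type*} [Fintype ι] (v : Pt C) (π : Localization.AtPrime v.2.asIdeal) (i : ι)
    (y : ι → C) (n : ι → ℕ) (x : C) (ux uy : (Localization.AtPrime v.2.asIdeal)ˣ)
    (huy : toL v (y i) = (uy : Localization.AtPrime v.2.asIdeal) * π)
    (hyn : ∀ j, j ≠ i → y j ∉ (pt v).asIdeal)
    (hx : toL v x = (ux : Localization.AtPrime v.2.asIdeal) * π ^ n i) :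
    ∃ s c : C, s ∉ (pt v).asIdeal ∧ c ∉ (pt v).asIdeal ∧ s * x = c * ∏ j, y j ^ n j := by
  obtain ⟨w, hw⟩ := prod_eq_unit_mul (fun j => toL v (y j)) n i π uy huy
    (fun j hj => (isUnit_toL v).mpr (hyn j hj))
  refine exists_cross v (u := ux * w⁻¹) ?_
  rw [map_prod, Finset.prod_congr rfl (fun j _ => map_pow (toL v) (y j) (n j)), hw, hx]
  exact unit_mul_pow_eq ux w _

omit [IsNoetherianRing A] [IsLocalRing A] [Module.Finite A C] hA in
theorem param_of_fine (v : Pt C) {S : Finset (FractionRing A)} (h : Fine v.1 S C) :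
    ∃ π ∈ nonZeroDivisors (Localization.AtPrime v.2.asIdeal), ∀ x : C, (x : FractionRing A) ∈ S →
      ∃ (u : (Localization.AtPrime v.2.asIdeal)ˣ) (e : ℕ),
        toL v x = (u : Localization.AtPrime v.2.asIdeal) * π ^ e := by
  obtain ⟨p, q⟩ := v
  obtain ⟨π, hπ, hgen⟩ := h q
  refine ⟨π, hπ, fun x hx => ?_⟩
  obtain ⟨u, e, he⟩ := hgen x hx
  refine ⟨u, e, ?_⟩
  rw [toL, RingHom.comp_apply]
  exact he

omit [Module.Finite A C] in
/-- the sum over the height-one primes vanishes -/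
theorem Phi_eq_zero (a b : A) (ha : a ∈ nonZeroDivisors A) (hb : b ∈ nonZeroDivisors A) :
    Phi a b = 0 := by
  classical
  let F := (finite_ht1 (mul_mem ha hb)).toFinset
  have hF : ∀ p ∈ F, p ∈ ht1 A := fun p hp => ((Set.Finite.mem_toFinset _).mp hp).1
  let S : Finset (FractionRing A) := {algebraMap A (FractionRing A) a, algebraMap A (FractionRing A) b}
  haveI : Module.Finite A (⊥ : Subalgebra A (FractionRing A)) :=
    Module.Finite.of_surjective (Algebra.ofId A (⊥ : Subalgebra A (FractionRing A))).toLinearMap fun x => by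
      obtain ⟨a, ha⟩ := Algebra.mem_bot.mp x.2
      exact ⟨a, Subtype.ext ha⟩
  obtain ⟨C, -, hCfin, hfine⟩ := exists_fine_all F hF
    (fun p hp => ⟨a * b, mul_mem ha hb, ((Set.Finite.mem_toFinset _).mp hp).2⟩) ⊥ S
    (fun z hz => by
      simp only [S, Finset.mem_insert, Finset.mem_singleton] at hz
      rcases hz with rfl | rfl <;> exact Subalgebra.algebraMap_mem _ _)
    (fun z hz => by
      simp only [S, Finset.mem_insert, Finset.mem_singleton] at hz
      rcases hz with rfl | rfl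
      exacts [isUnit_map ha, isUnit_map hb])
  haveI := hCfin
  haveI : ∀ p : PrimeSpectrum A, Finite (MaximalSpectrum (loc p C)) := fun p =>
    haveI := finite_loc p C
    Groth.L15.Tame.finite_spectrum (A := Localization.AtPrime p.asIdeal)
  letI : ∀ p : PrimeSpectrum A, Fintype (MaximalSpectrum (loc p C)) := fun p => Fintype.ofFinite _
  let a' := algebraMap A C a
  let b' := algebraMap A C b
  have hau : IsUnit (a' : FractionRing A) := isUnit_map ha
  have hbu : IsUnit (b' : FractionRing A) := isUnit_map hb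
  have haS : (a' : FractionRing A) ∈ S :=
    Finset.mem_insert_self (algebraMap A (FractionRing A) a) _
  have hbS : (b' : FractionRing A) ∈ S :=
    Finset.mem_insert_of_mem (Finset.mem_singleton_self (algebraMap A (FractionRing A) b))
  let SS := F.sigma fun p => (Finset.univ : Finset (MaximalSpectrum (loc p C)))
  let V := {v : Pt C // v ∈ SS}
  have hvF : ∀ v : V, v.1.1 ∈ F := fun v => (Finset.mem_sigma.mp v.2).1
  have hab : ∀ v : V, a' * b' ∈ (pt v.1).asIdeal := fun v => by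
    rw [← map_mul]
    change algebraMap A C (a * b) ∈ pr v.1.2
    rw [← Ideal.mem_comap, pr_comap (hF _ (hvF v)) v.1.2]
    exact ((Set.Finite.mem_toFinset _).mp (hvF v)).2
  have hgood : ∀ v : V, pt v.1 ∈ Good C := fun v => ⟨by
      change ((pr v.1.2).comap (algebraMap A C)).height = 1
      rw [pr_comap (hF _ (hvF v)) v.1.2]
      exact hF _ (hvF v), a' * b', hau.mul hbu, hab v⟩
  have hpar : ∀ v : V, ∃ π ∈ nonZeroDivisors (Localization.AtPrime v.1.2.asIdeal), ¬ IsUnit π ∧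
      ∃ (u₁ u₂ : (Localization.AtPrime v.1.2.asIdeal)ˣ) (e f : ℕ),
        toL v.1 a' = (u₁ : Localization.AtPrime v.1.2.asIdeal) * π ^ e ∧
        toL v.1 b' = (u₂ : Localization.AtPrime v.1.2.asIdeal) * π ^ f := by
    intro v
    have h0 : Fine v.1.1 S C := hfine C le_rfl hCfin v.1.1 (hvF v)
    have h1 := param_of_fine (C := C) v.1 h0
    obtain ⟨π, hπ, hgen⟩ := h1
    have qa := hgen a'
    have qa' := qa haS
    obtain ⟨u₁, e, h₁⟩ := qa'
    have qb := hgen b'
    have qb' := qb hbS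
    obtain ⟨u₂, f, h₂⟩ := qb'
    refine ⟨π, hπ, fun hu => ?_, u₁, u₂, e, f, h₁, h₂⟩
    rcases (pt v.1).2.mem_or_mem (hab v) with h | h
    · exact ((isUnit_toL v.1).mp (show IsUnit (toL v.1 a') from h₁ ▸ u₁.isUnit.mul (hu.pow e))) h
    · exact ((isUnit_toL v.1).mp (show IsUnit (toL v.1 b') from h₂ ▸ u₂.isUnit.mul (hu.pow f))) h
  choose π hπ hπu u₁ u₂ e f hae hbf using hpar
  let G0 : Finset (PrimeSpectrum C) := (Finset.univ : Finset V).image fun v => pt v.1
  have hG0 : ∀ P ∈ G0, P ∈ Good C := fun P hP => by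
    obtain ⟨v, -, rfl⟩ := Finset.mem_image.mp hP; exact hgood v
  have hin : ∀ v : V, pt v.1 ∈ G0 := fun v => Finset.mem_image.mpr ⟨v, Finset.mem_univ _, rfl⟩
  have hne : ∀ v w : V, v ≠ w → pt v.1 ≠ pt w.1 := fun v w h hvw =>
    h (Subtype.ext (pt_injective F hF (hvF v) (hvF w) hvw))
  have habG : ∀ P ∈ overHt1 C, a' * b' ∈ P.asIdeal → P ∈ G0 := by
    intro P hP habP
    let p := PrimeSpectrum.comap (algebraMap A C) P
    have hpF : p ∈ F := (Set.Finite.mem_toFinset _).mpr ⟨hP, by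
      change algebraMap A C (a * b) ∈ P.asIdeal
      rw [map_mul]; exact habP⟩
    have hne : P.asIdeal.map (algebraMap C (loc p C)) ≠ ⊤ := by
      rw [IsLocalization.map_algebraMap_ne_top_iff_disjoint (Algebra.algebraMapSubmonoid C p.asIdeal.primeCompl) (loc p C),
        Set.disjoint_left]
      rintro _ ⟨x, hx, rfl⟩ h
      exact hx h
    obtain ⟨q, hq, hle⟩ := Ideal.exists_le_maximal _ hne
    let v : V := ⟨⟨p, ⟨q, hq⟩⟩, Finset.mem_sigma.mpr ⟨hpF, Finset.mem_univ _⟩⟩
    rw [eq_of_le_overHt1 (hau.mul hbu) habP (P' := pt v.1) (Ideal.map_le_iff_le_comap.mp hle) (hgood v).1]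
    exact hin v
  have grow : ∀ (G : Finset (PrimeSpectrum C)) (z : V → C), (∀ P ∈ G, P ∈ Good C) →
      (∀ v, IsUnit (z v : FractionRing A)) → ∃ G', G ⊆ G' ∧ (∀ P ∈ G', P ∈ Good C) ∧
        ∀ v, ∀ P ∈ overHt1 C, z v ∈ P.asIdeal → P ∈ G' := by
    intro G z hG hz
    refine ⟨G ∪ Finset.univ.biUnion fun v => (finite_over (hz v)).toFinset, Finset.subset_union_left, ?_, ?_⟩
    · intro P hP
      rcases Finset.mem_union.mp hP with h | h
      · exact hG P h
      · obtain ⟨v, -, h⟩ := Finset.mem_biUnion.mp h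
        obtain ⟨h1, h2⟩ := (Set.Finite.mem_toFinset _).mp h
        exact ⟨h1, z v, hz v, h2⟩
    · exact fun v P hP hv => Finset.mem_union_right _
        (Finset.mem_biUnion.mpr ⟨v, Finset.mem_univ _, (Set.Finite.mem_toFinset _).mpr ⟨hP, hv⟩⟩)
  have rep : ∀ (G : Finset (PrimeSpectrum C)), (∀ P ∈ G, P ∈ Good C) →
      ∀ v : V, ∃ z : C, IsUnit (z : FractionRing A) ∧ (∀ P ∈ G, P ≠ pt v.1 → z ∉ P.asIdeal) ∧
        ∃ u : (Localization.AtPrime v.1.2.asIdeal)ˣ,
          toL v.1 z = (u : Localization.AtPrime v.1.2.asIdeal) * π v := fun G hG v =>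
    exists_z hA v.1 (hF _ (hvF v)) (π v) (hπ v) (hπu v) (hgood v) G hG
  choose z hzu hzn uz hzv using rep G0 hG0
  obtain ⟨E1, hE1, hE1g, hE1z⟩ := grow G0 z hG0 hzu
  choose w hwu hwn uw hwv using rep E1 hE1g
  obtain ⟨E2, hE2, hE2g, hE2w⟩ := grow E1 w hE1g hwu
  choose t htu htn ut htv using rep E2 hE2g
  -- product of representatives
  have hprodu : ∀ (y : V → C) (n : V → ℕ), (∀ v, IsUnit (y v : FractionRing A)) →
      IsUnit ((∏ v, y v ^ n v : C) : FractionRing A) := fun y n hy => by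
    rw [SubmonoidClass.coe_finsetProd]
    exact Finset.prod_induction _ IsUnit (fun _ _ => IsUnit.mul) isUnit_one
      fun v _ => by rw [SubmonoidClass.coe_pow]; exact (hy v).pow _
  have hprod : ∀ (y : V → C) (n : V → ℕ) (x : C) (ux : ∀ v : V, (Localization.AtPrime v.1.2.asIdeal)ˣ),
      (∀ v, ∃ u : (Localization.AtPrime v.1.2.asIdeal)ˣ,
        toL v.1 (y v) = (u : Localization.AtPrime v.1.2.asIdeal) * π v) →
      (∀ v v' : V, v ≠ v' → y v ∉ (pt v'.1).asIdeal) →
      (∀ v, toL v.1 x = (ux v : Localization.AtPrime v.1.2.asIdeal) * π v ^ n v) →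
      ∀ v : V, ∃ s c : C, s ∉ (pt v.1).asIdeal ∧ c ∉ (pt v.1).asIdeal ∧ s * x = c * ∏ v', y v' ^ n v' := by
    intro y n x ux hy hyn hx v
    obtain ⟨uy, huy⟩ := hy v
    exact cross_prod v.1 (π v) v y n x (ux v) uy huy (fun j hj => hyn j v hj) (hx v)
  -- step one
  have step1 : Psi (a' : FractionRing A) (b' : FractionRing A) =
      ∑ v, (e v : ℤ) * Psi (z v : FractionRing A) (b' : FractionRing A) := by
    rw [move hA G0 a' (∏ v, z v ^ e v) b' hau (hprodu z e hzu) hbu
      (fun P hP h => habG P hP (P.asIdeal.mul_mem_left _ h)) (fun P hP => by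
        obtain ⟨v, -, rfl⟩ := Finset.mem_image.mp hP
        exact hprod z e a' u₁ (fun v => ⟨uz v, hzv v⟩)
          (fun v v' h => hzn v _ (hin v') (hne v' v h.symm)) hae v),
      SubmonoidClass.coe_finsetProd, Psi_prod_left hA _ _ (fun v _ => by
        rw [SubmonoidClass.coe_pow]; exact (hzu v).pow _) hbu]
    exact Finset.sum_congr rfl fun v _ => by rw [SubmonoidClass.coe_pow, Psi_pow_left hA (hzu v) hbu]
  have wn0 : ∀ v v' : V, v ≠ v' → w v ∉ (pt v'.1).asIdeal := fun v v' h =>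
    hwn v _ (hE1 (hin v')) (hne v' v h.symm)
  have step2 : ∀ v₀ : V, Psi (b' : FractionRing A) (z v₀ : FractionRing A) =
      ∑ v, (f v : ℤ) * Psi (w v : FractionRing A) (z v₀ : FractionRing A) := by
    intro v₀
    rw [move hA E1 b' (∏ v, w v ^ f v) (z v₀) hbu (hprodu w f hwu) (hzu v₀) (hE1z v₀) (fun P hP => by
        by_cases hP0 : P ∈ G0
        · obtain ⟨v, -, rfl⟩ := Finset.mem_image.mp hP0
          exact hprod w f b' u₂ (fun v => ⟨uw v, hwv v⟩) wn0 hbf v
        · refine ⟨∏ v, w v ^ f v, b', fun h => ?_, fun h => ?_, mul_comm _ _⟩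
          · obtain ⟨v, -, h'⟩ := (P.2.prod_mem_iff).mp h
            exact hwn v P hP (fun h'' => hP0 (h'' ▸ hin v)) (P.2.mem_of_pow_mem _ h')
          · exact hP0 (habG P (hE1g P hP).1 (P.asIdeal.mul_mem_left _ h))),
      SubmonoidClass.coe_finsetProd, Psi_prod_left hA _ _ (fun v _ => by
        rw [SubmonoidClass.coe_pow]; exact (hwu v).pow _) (hzu v₀)]
    exact Finset.sum_congr rfl fun v _ => by rw [SubmonoidClass.coe_pow, Psi_pow_left hA (hwu v) (hzu v₀)]
  have swap : ∀ (v : V) (x y c : C) (ux uy : (Localization.AtPrime v.1.2.asIdeal)ˣ),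
      IsUnit (x : FractionRing A) → IsUnit (y : FractionRing A) → IsUnit (c : FractionRing A) →
      toL v.1 x = (ux : Localization.AtPrime v.1.2.asIdeal) * π v →
      toL v.1 y = (uy : Localization.AtPrime v.1.2.asIdeal) * π v →
      (∀ P ∈ overHt1 C, c ∈ P.asIdeal → P ≠ pt v.1 → x ∉ P.asIdeal ∧ y ∉ P.asIdeal) →
      Psi (x : FractionRing A) (c : FractionRing A) = Psi (y : FractionRing A) (c : FractionRing A) := by
    intro v x y c ux uy hx hy hc hxv hyv hcon
    refine move hA ((finite_over hc).toFinset) x y c hx hy hc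
      (fun P hP h => (Set.Finite.mem_toFinset _).mpr ⟨hP, h⟩) fun P hP => ?_
    obtain ⟨hP1, hP2⟩ := (Set.Finite.mem_toFinset _).mp hP
    by_cases h : P = pt v.1
    · subst h
      have h5 := unit_mul_pow_eq ux uy (π v)
      have h6 := hxv.trans h5
      have h7 := h6.trans (congrArg (fun z => ((ux * uy⁻¹ : (Localization.AtPrime v.1.2.asIdeal)ˣ) : Localization.AtPrime v.1.2.asIdeal) * z) hyv.symm)
      exact exists_cross v.1 h7
    · obtain ⟨hxP, hyP⟩ := hcon P hP1 hP2 h
      exact ⟨y, x, hyP, hxP, mul_comm _ _⟩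
  have diag : ∀ v : V, Psi (w v : FractionRing A) (z v : FractionRing A) = 0 := by
    intro v
    have dzw : ∀ P ∈ overHt1 C, P ≠ pt v.1 → z v ∈ P.asIdeal → w v ∉ P.asIdeal :=
      fun P hP hne h => hwn v P (hE1z v P hP h) hne
    have dzt : ∀ P ∈ overHt1 C, P ≠ pt v.1 → z v ∈ P.asIdeal → t v ∉ P.asIdeal :=
      fun P hP hne h => htn v P (hE2 (hE1z v P hP h)) hne
    have dwt : ∀ P ∈ overHt1 C, P ≠ pt v.1 → w v ∈ P.asIdeal → t v ∉ P.asIdeal :=
      fun P hP hne h => htn v P (hE2w v P hP h) hne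
    have h1 := swap v (z v) (t v) (w v) (uz v) (ut v) (hzu v) (htu v) (hwu v) (hzv v) (htv v)
      fun P hP h hne => ⟨fun h' => dzw P hP hne h' h, dwt P hP hne h⟩
    have h2 := swap v (w v) (z v) (t v) (uw v) (uz v) (hwu v) (hzu v) (htu v) (hwv v) (hzv v)
      fun P hP h hne => ⟨fun h' => dwt P hP hne h' h, fun h' => dzt P hP hne h' h⟩
    have h3 := swap v (t v) (w v) (z v) (ut v) (uw v) (htu v) (hwu v) (hzu v) (htv v) (hwv v)
      fun P hP h hne => ⟨dzt P hP hne h, dzw P hP hne h⟩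
    have c1 := Psi_comm hA (hwu v) (htu v)
    have c2 := Psi_comm hA (hzu v) (htu v)
    have c3 := Psi_comm hA (hzu v) (hwu v)
    omega
  have offdiag : ∀ v v' : V, v ≠ v' → Psi (w v : FractionRing A) (z v' : FractionRing A) = 0 := by
    intro v v' hvv'
    refine Psi_eq_zero hA C _ _ (hwu v) (hzu v') fun P hP h1 h2 => ?_
    by_cases h : P = pt v.1
    · subst h
      exact hzn v' _ (hin v) (hne v v' hvv') h2
    · exact hwn v P (hE1z v' P hP h2) h h1
  have hzb : ∀ v₀ : V, Psi (z v₀ : FractionRing A) (b' : FractionRing A) = 0 := by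
    intro v₀
    have h := step2 v₀
    rw [Finset.sum_eq_zero fun v _ => by
      by_cases hv : v = v₀
      · subst hv; rw [diag v, mul_zero]
      · rw [offdiag v v₀ hv, mul_zero]] at h
    have := Psi_comm hA (hzu v₀) hbu
    omega
  have hres : Psi (a' : FractionRing A) (b' : FractionRing A) = 0 := by
    rw [step1]
    exact Finset.sum_eq_zero fun v _ => by rw [hzb v, mul_zero]
  rw [← Psi_map hA ha hb]
  exact hres

end Groth.L15.Key
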